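import Cfsg.Agent.H759.Ore.Fi22Cent
import Cfsg.Agent.H830.Parts
import Cfsg.Agent.Fischer.Fi23Simple
import Cfsg.Agent.Fischer.Fi22Order

/-!
# `Fi23`: `|C(a) ∩ C(s)| ≤ 39191040` for a transposition `a` and `s` of order three (helper868, for S2443)
-/

set_option autoImplicit false

namespace Cfsg.Agent.H868.Ore.Fi23A

open Cfsg Subgroup
open Cfsg.Agent.R01.Lifts (Ext)
open Cfsg.Spor (Fi23)

theorem finite_fi23 : Finite Fi23 :=
  Nat.finite_of_card_ne_zero (by rw [Cfsg.Agent.Fischer.Fi23Simple.card_Fi23]; norm_num)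

theorem finite_fi22 : Finite Spor.Fi22 :=
  Nat.finite_of_card_ne_zero (by rw [Cfsg.Agent.Fischer.Fi22Order.card_fi22]; norm_num)

/-- centralizers in a group with a homomorphism whose kernel has at most two elements -/
theorem card_le_of_ker {C U : Type*} [Group C] [Group U] [Finite C] [Finite U] (π : C →* U) {z : C}
    (h : ∀ c, π c = 1 → c = 1 ∨ c = z) (s : C) :
    Nat.card (centralizer ({s} : Set C)) ≤ 2 * Nat.card (centralizer ({π s} : Set U)) := by
  classical
  let f : centralizer ({s} : Set C) →* centralizer ({π s} : Set U) :=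
    (π.comp (Subgroup.subtype _)).codRestrict _ (by
      intro c
      rw [mem_centralizer_singleton_iff]
      show π (c : C) * π s = π s * π (c : C)
      rw [← map_mul, ← map_mul, mem_centralizer_singleton_iff.1 c.2])
  have hker : Nat.card f.ker ≤ 2 := by
    have h1 : Nat.card f.ker ≤ Nat.card ({1, z} : Set C) := by
      refine Nat.card_le_card_of_injective (fun a : f.ker => (⟨((a : centralizer ({s} : Set C)) : C), ?_⟩ : ({1, z} : Set C))) ?_
      · have h2 : f (a : centralizer ({s} : Set C)) = 1 := MonoidHom.mem_ker.1 a.2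
        exact h _ (congrArg Subtype.val h2)
      · intro a b hab
        have h1 : ((a : centralizer ({s} : Set C)) : C) = ((b : centralizer ({s} : Set C)) : C) :=
          congrArg (Subtype.val : ({1, z} : Set C) → C) hab
        exact Subtype.ext (Subtype.ext h1)
    refine h1.trans ?_
    rw [Nat.card_coe_set_eq]
    exact (Set.ncard_insert_le 1 {z}).trans (by rw [Set.ncard_singleton])
  rw [← Subgroup.card_mul_index f.ker, Subgroup.index_ker]
  exact Nat.mul_le_mul hker (Subgroup.card_le_card_group f.range)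

/-- the image of an element of order three -/
theorem orderOf_three {C U : Type*} [Group C] [Group U] (π : C →* U) {z : C} (hz : z * z = 1)
    (h : ∀ c, π c = 1 → c = 1 ∨ c = z) {s : C} (hs : orderOf s = 3) : orderOf (π s) = 3 := by
  refine orderOf_eq_prime (p := 3) ?_ ?_
  · rw [← map_pow, ← hs, pow_orderOf_eq_one, map_one]
  · intro h1
    rcases h s h1 with h2 | h2
    · rw [h2, orderOf_one] at hs
      norm_num at hs
    · have h3 : s ^ 2 = 1 := by rw [h2, pow_two, hz]
      have h4 := orderOf_dvd_of_pow_eq_one h3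
      rw [hs] at h4
      norm_num at h4

/-- the abstract form -/
theorem bd_abs {G : Type*} [Group G] [Finite G] {z : G} (π : centralizer ({z} : Set G) →* Spor.Fi22) (hzz : z * z = 1)
    (hker : ∀ c, π c = 1 → c = 1 ∨ (c : G) = z) {s : G} (hs : orderOf s = 3) (hsz : s * z = z * s) :
    Nat.card (centralizer ({z, s} : Set G)) ≤ 39191040 := by
  have hfin2 : Finite Spor.Fi22 := finite_fi22
  let s' : centralizer ({z} : Set G) := ⟨s, mem_centralizer_singleton_iff.2 hsz⟩
  let z' : centralizer ({z} : Set G) := ⟨z, mem_centralizer_singleton_iff.2 rfl⟩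
  have hs' : orderOf s' = 3 := by rw [Subgroup.orderOf_mk, hs]
  have hk : ∀ c, π c = 1 → c = 1 ∨ c = z' := fun c hc => (hker c hc).imp id fun h => Subtype.ext h
  have h1 : Nat.card (centralizer ({z, s} : Set G)) ≤ Nat.card (centralizer ({s'} : Set (centralizer ({z} : Set G)))) := by
    refine Nat.card_le_card_of_injective (fun x => ⟨⟨x, ?_⟩, ?_⟩) ?_
    · exact mem_centralizer_singleton_iff.2 ((mem_centralizer_iff.1 x.2) z (Or.inl rfl)).symm
    · exact mem_centralizer_singleton_iff.2 (Subtype.ext ((mem_centralizer_iff.1 x.2) s (Or.inr rfl)).symm)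
    · intro a b hab
      exact Subtype.ext (congrArg (fun y : centralizer ({s'} : Set (centralizer ({z} : Set G))) => ((y : centralizer ({z} : Set G)) : G)) hab)
  have h2 := card_le_of_ker π hk s'
  have h3 := H759.Ore.Fi22Cent.card_le (MulEquiv.refl Spor.Fi22) (orderOf_three π (Subtype.ext hzz) hk hs')
  have h4 := h1.trans h2
  omega

theorem bd_ext {G : Type*} [Group G] [Finite G] {z : G} {π : centralizer ({z} : Set G) →* Spor.Fi22}
    (hE : Ext π (R01.Start.zel z)) {s : G} (hs : orderOf s = 3) (hsz : s * z = z * s) :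
    Nat.card (centralizer ({z, s} : Set G)) ≤ 39191040 :=
  bd_abs π (congrArg Subtype.val hE.zz) (fun c hc => ((hE.ker c).1 hc).imp id fun h => congrArg Subtype.val h) hs hsz

/-- transport -/
theorem bd_equiv {Y : Type} [Group Y] [Finite Y] (e : Y ≃* Spor.Fi23) {x s : Y} (hx : e x = Cfsg.Agent.Fischer.Fi23Z.z0)
    (hs : orderOf s = 3) (hsx : s * x = x * s) : Nat.card (centralizer ({x, s} : Set Y)) ≤ 39191040 := by
  obtain ⟨π, hE, -⟩ := H830.Parts.ext23 e
  have h1 : e.symm Cfsg.Agent.Fischer.Fi23Z.z0 = x := by rw [← hx, MulEquiv.symm_apply_apply]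
  rw [← h1] at hsx ⊢
  exact bd_ext hE hs hsx

/-- **the transposition `z0`** (`H822.Ore.Fi23Row.Bd z0`) -/
theorem bd_z0 (s : Fi23) (hs : orderOf s = 3) (hsz : s * Cfsg.Agent.Fischer.Fi23Z.z0 = Cfsg.Agent.Fischer.Fi23Z.z0 * s) :
    Nat.card (centralizer ({Cfsg.Agent.Fischer.Fi23Z.z0, s} : Set Fi23)) ≤ 39191040 := by
  have hfin := finite_fi23
  exact bd_equiv (MulEquiv.refl Fi23) (MulEquiv.refl_apply _) hs hsz

end Cfsg.Agent.H868.Ore.Fi23A
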