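import Cfsg.Agent.H868.Ore.Fi23A
import Cfsg.Agent.H755.CC.Fi24

/-!
# `Fi24'`: `|C(z) ∩ C(s)| ≤ 78382080` for `z = a b` of class 2A and `s` of order three (helper868, for S2443)
-/

set_option autoImplicit false

namespace Cfsg.Agent.H868.Ore.Fi24A

open Cfsg Subgroup
open Cfsg.Agent.R08
open Cfsg.Agent.R08.FiTwentyFour (L)

/-- a transposition commuting with `a b` commutes with `a` -/
theorem comm_left {F : Type*} [Group F] {a b c : F} (ha : a * a = 1) (hb : b * b = 1) (hc : c * c = 1) (hab : a ≠ b)
    (h1 : Commute a c ∨ a * c * a = c * a * c) (h2 : Commute b c ∨ b * c * b = c * b * c)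
    (h : Commute c (a * b)) : Commute c a := by
  have key : c * (a * b) * c = a * b := by rw [h.eq, mul_assoc, hc, mul_one]
  by_contra hca
  have h3 : a * c * a = c * a * c := h1.resolve_left fun h => hca h.symm
  have h4 : a * b = (a * c * a) * (c * b * c) := by
    rw [h3]
    calc a * b = c * (a * b) * c := key.symm
      _ = c * a * (c * c) * b * c := by rw [hc, mul_one]; group
      _ = c * a * c * (c * b * c) := by group
  rcases h2 with h2 | h2
  · have h5 : c * b * c = b := by rw [← h2.eq, mul_assoc, hc, mul_one]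
    rw [h5] at h4
    have h6 : a = a * c * a := mul_right_cancel h4
    have h7 : (1 : F) = c * a := by
      have h8 : a * 1 = a * (c * a) := by rw [mul_one, ← mul_assoc]; exact h6
      exact mul_left_cancel h8
    apply hca
    have h9 : c = a := by
      calc c = c * (a * a) := by rw [ha, mul_one]
        _ = (c * a) * a := by rw [mul_assoc]
        _ = a := by rw [← h7, one_mul]
    rw [h9]
  · rw [← h2] at h4
    have h5 : b = c * a * (b * c * b) := by
      have h8 : a * b = a * (c * a * (b * c * b)) := by rw [h4]; group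
      exact mul_left_cancel h8
    have h6 : (1 : F) = c * a * (b * c) := by
      have h8 : 1 * b = c * a * (b * c) * b := by rw [one_mul]; rw [mul_assoc (c * a) (b * c) b]; exact h5
      exact mul_right_cancel h8
    have h7 : a * b = 1 := by
      have h8 : c * (a * b) * c = 1 := by
        calc c * (a * b) * c = c * a * (b * c) := by group
          _ = 1 := h6.symm
      rw [← key]; exact h8
    apply hab
    calc a = a * (b * b) := by rw [hb, mul_one]
      _ = (a * b) * b := by rw [mul_assoc]
      _ = b := by rw [h7, one_mul]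

variable {a b : Spor.Fi24} (ha : a ∈ L) (hb : b ∈ L) (hne : a ≠ b) (hab : Commute a b)

include ha hb hne hab in
/-- an element commuting with `a b` permutes `a` and `b` -/
theorem perm {g : Spor.Fi24} (hg : Commute g (a * b)) : g * a * g⁻¹ = a ∨ g * a * g⁻¹ = b := by
  have qa := FiTwentyFour.sq ha
  have qb := FiTwentyFour.sq hb
  have hc : g * a * g⁻¹ ∈ L := FiTwentyFour.conj ha g
  have hd : g * b * g⁻¹ ∈ L := FiTwentyFour.conj hb g
  have qc := FiTwentyFour.sq hc
  have qd := FiTwentyFour.sq hd
  have hcd : a * b = g * a * g⁻¹ * (g * b * g⁻¹) := by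
    calc a * b = a * b * g * g⁻¹ := by group
      _ = g * (a * b) * g⁻¹ := by rw [← hg.eq]
      _ = g * a * g⁻¹ * (g * b * g⁻¹) := by group
  have hcc : Commute (g * a * g⁻¹) (g * b * g⁻¹) := by
    have h1 := hab.map (MulAut.conj g).toMonoidHom
    exact h1
  have h1 : Commute (g * a * g⁻¹) (a * b) := by
    rw [hcd]; exact (Commute.refl _).mul_right hcc
  have h2 : Commute (g * b * g⁻¹) (a * b) := by
    rw [hcd]; exact hcc.symm.mul_right (Commute.refl _)
  have h3 := comm_left qa qb qc hne (FiTwentyFour.three ha hc) (FiTwentyFour.three hb hc) h1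
  have h4 := comm_left qa qb qd hne (FiTwentyFour.three ha hd) (FiTwentyFour.three hb hd) h2
  have h5 := comm_left qb qa qc hne.symm (FiTwentyFour.three hb hc) (FiTwentyFour.three ha hc) (by rw [← hab.eq]; exact h1)
  have h6 := comm_left qb qa qd hne.symm (FiTwentyFour.three hb hd) (FiTwentyFour.three ha hd) (by rw [← hab.eq]; exact h2)
  exact H755.CC.FiTF.trans.four a ha b hb _ hc _ hd hne hab h3.symm h4.symm h5.symm h6.symm hcd

include ha hb hne hab in
/-- elements of order three commuting with `a b` commute with `a` and `b` -/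
theorem comm_of_three {s : Spor.Fi24} (hs : s ^ 3 = 1) (h : Commute s (a * b)) : Commute s a ∧ Commute s b := by
  have hab1 : s * (a * b) * s⁻¹ = a * b := by rw [h.eq]; group
  have hA : Commute s a := by
    rcases perm ha hb hne hab h with h1 | h1
    · exact mul_inv_eq_iff_eq_mul.1 h1
    · exfalso
      have h2 : s * b * s⁻¹ = a := by
        have h3 : b * (s * b * s⁻¹) = b * a := by
          calc b * (s * b * s⁻¹) = (s * a * s⁻¹) * (s * b * s⁻¹) := by rw [h1]
            _ = s * (a * b) * s⁻¹ := by group
            _ = b * a := by rw [hab1, hab.eq]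
        exact mul_left_cancel h3
      have h4 : s * s * a * (s * s)⁻¹ = a := by
        calc s * s * a * (s * s)⁻¹ = s * (s * a * s⁻¹) * s⁻¹ := by group
          _ = a := by rw [h1, h2]
      have h5 : s * s * s = 1 := by rw [← hs]; simp only [pow_succ, pow_zero, one_mul]
      have h6 : a = b := by
        calc a = s * s * s * a * (s * s * s)⁻¹ := by rw [h5]; group
          _ = s * (s * s * a * (s * s)⁻¹) * s⁻¹ := by group
          _ = b := by rw [h4, h1]
      exact hne h6
  refine ⟨hA, ?_⟩
  have h1 : a * (s * b) = a * (b * s) := by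
    calc a * (s * b) = s * (a * b) := by rw [← mul_assoc, ← hA.eq, mul_assoc]
      _ = a * b * s := h.eq
      _ = a * (b * s) := mul_assoc _ _ _
  exact mul_left_cancel h1

include ha hb hne hab in
/-- **the bound** -/
theorem bd {z s : commutator Spor.Fi24} (hz : (z : Spor.Fi24) = a * b) (hs : orderOf s = 3) (hzs : Commute z s) :
    Nat.card (centralizer ({z} : Set (commutator Spor.Fi24)) ⊓ centralizer ({s} : Set (commutator Spor.Fi24)) :
      Subgroup (commutator Spor.Fi24)) ≤ 78382080 := by
  classical
  have hfin : Finite (commutator Spor.Fi24) := H755.CC.FiTF.finite_G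
  have hfin2 : Finite Spor.Fi22 := Fi23A.finite_fi22
  set D : Subgroup (commutator Spor.Fi24) := centralizer {z} ⊓ centralizer {s} with hD
  have hDz : ∀ g : commutator Spor.Fi24, g ∈ D → Commute (g : Spor.Fi24) (a * b) := by
    intro g hg
    rw [← hz]
    exact congrArg Subtype.val (mem_centralizer_singleton_iff.1 hg.1)
  have hDs : ∀ g : commutator Spor.Fi24, g ∈ D → Commute (g : Spor.Fi24) s := fun g hg =>
    congrArg Subtype.val (mem_centralizer_singleton_iff.1 hg.2)
  have hs3 : (s : Spor.Fi24) ^ 3 = 1 := by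
    have h1 : s ^ 3 = 1 := by rw [← hs, pow_orderOf_eq_one]
    exact congrArg Subtype.val h1
  have hsab := comm_of_three ha hb hne hab hs3 (by rw [← hz]; exact (congrArg Subtype.val hzs.eq).symm)
  -- the stabilizer of `a`
  let H : Subgroup D :=
    { carrier := {g | Commute ((g : commutator Spor.Fi24) : Spor.Fi24) a}
      one_mem' := Commute.one_left a
      mul_mem' := fun {x y} hx hy => Commute.mul_left hx hy
      inv_mem' := fun {x} hx => Commute.inv_left hx }
  have hDH : Nat.card D ≤ 2 * Nat.card H := by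
    by_cases hex : ∃ g0 : D, g0 ∉ H
    · obtain ⟨g0, hg0⟩ := hex
      have h1 : ∀ g : D, g ∉ H → (g : Spor.Fi24) * a * (g : Spor.Fi24)⁻¹ = b := fun g hg =>
        (perm ha hb hne hab (hDz g g.2)).resolve_left fun h => hg (mul_inv_eq_iff_eq_mul.1 h)
      have h2 : ∀ g : D, g ∉ H → g0⁻¹ * g ∈ H := by
        intro g hg
        have h3 := h1 g hg
        have h4 := h1 g0 hg0
        show ((g0⁻¹ * g : D) : Spor.Fi24) * a = a * ((g0⁻¹ * g : D) : Spor.Fi24)
        have h5 : ((g0⁻¹ * g : D) : Spor.Fi24) = (g0 : Spor.Fi24)⁻¹ * g := rfl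
        rw [h5]
        calc (g0 : Spor.Fi24)⁻¹ * g * a = (g0 : Spor.Fi24)⁻¹ * ((g : Spor.Fi24) * a * (g : Spor.Fi24)⁻¹) * g := by group
          _ = (g0 : Spor.Fi24)⁻¹ * ((g0 : Spor.Fi24) * a * (g0 : Spor.Fi24)⁻¹) * g := by rw [h3, h4]
          _ = a * ((g0 : Spor.Fi24)⁻¹ * g) := by group
      let f : D → H ⊕ H := fun g => if hg : g ∈ H then Sum.inl ⟨g, hg⟩ else Sum.inr ⟨g0⁻¹ * g, h2 g hg⟩
      have hf : Function.Injective f := by
        intro x y hxy
        by_cases hx : x ∈ H
        · by_cases hy : y ∈ H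
          · simp only [f, hx, hy, dif_pos, Sum.inl.injEq, Subtype.mk.injEq] at hxy
            exact hxy
          · simp only [f, hx, hy, dif_pos, dif_neg, not_false_eq_true, reduceCtorEq] at hxy
        · by_cases hy : y ∈ H
          · simp only [f, hx, hy, dif_pos, dif_neg, not_false_eq_true, reduceCtorEq] at hxy
          · simp only [f, hx, hy, dif_neg, not_false_eq_true, Sum.inr.injEq, Subtype.mk.injEq, mul_right_inj] at hxy
            exact hxy
      have h3 := Nat.card_le_card_of_injective f hf
      rw [Nat.card_sum] at h3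
      omega
    · push Not at hex
      have h1 : H = ⊤ := (Subgroup.eq_top_iff' H).2 hex
      rw [h1, Subgroup.card_top]
      omega
  obtain ⟨π, -, hker, -⟩ := FiTwentyFour.loc ha hb hne hab
  have hmem : ∀ g : D, g ∈ H → ((g : commutator Spor.Fi24) : Spor.Fi24) ∈ commutator Spor.Fi24 ⊓ centralizer {a, b} := by
    intro g hg
    have hga : Commute ((g : commutator Spor.Fi24) : Spor.Fi24) a := hg
    have hgz := hDz g g.2
    have hgb : Commute ((g : commutator Spor.Fi24) : Spor.Fi24) b := by
      have h1 : a * ((g : Spor.Fi24) * b) = a * (b * g) := by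
        calc a * ((g : Spor.Fi24) * b) = g * (a * b) := by rw [← mul_assoc, ← hga.eq, mul_assoc]
          _ = a * b * g := hgz.eq
          _ = a * (b * g) := mul_assoc _ _ _
      exact mul_left_cancel h1
    refine ⟨(g : commutator Spor.Fi24).2, mem_centralizer_iff.2 ?_⟩
    rintro w (rfl | rfl)
    · exact hga.eq.symm
    · exact hgb.eq.symm
  let K : Subgroup Spor.Fi24 := commutator Spor.Fi24 ⊓ centralizer {a, b}
  have hsK : (s : Spor.Fi24) ∈ K := ⟨s.2, mem_centralizer_iff.2 (by
    rintro w (rfl | rfl)
    · exact hsab.1.eq.symm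
    · exact hsab.2.eq.symm)⟩
  let s' : K := ⟨s, hsK⟩
  have hfinK : Finite K := by
    have h1 : K ≤ commutator Spor.Fi24 := inf_le_left
    exact Finite.of_injective (Subgroup.inclusion h1) (Subgroup.inclusion_injective h1)
  have hzK : (z : Spor.Fi24) ∈ K := ⟨z.2, by
    rw [hz]
    refine mem_centralizer_iff.2 ?_
    rintro w (rfl | rfl)
    · exact ((Commute.refl w).mul_right hab).eq
    · exact (hab.symm.mul_right (Commute.refl w)).eq⟩
  let z' : K := ⟨z, hzK⟩
  have hker' : ∀ c : K, π c = 1 → c = 1 ∨ c = z' := by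
    intro c hc
    rcases (hker c).1 hc with h | h
    · exact Or.inl (Subtype.ext h)
    · exact Or.inr (Subtype.ext (h.trans hz.symm))
  have hzz : z' * z' = 1 := by
    apply Subtype.ext
    show (z : Spor.Fi24) * z = 1
    rw [hz]
    calc a * b * (a * b) = a * (b * a) * b := by group
      _ = a * (a * b) * b := by rw [hab.eq]
      _ = (a * a) * (b * b) := by group
      _ = 1 := by rw [FiTwentyFour.sq ha, FiTwentyFour.sq hb, one_mul]
  have hs' : orderOf s' = 3 := by
    rw [Subgroup.orderOf_mk, ← hs]
    exact orderOf_coe s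
  have hH : Nat.card H ≤ Nat.card (centralizer ({s'} : Set K)) := by
    refine Nat.card_le_card_of_injective (fun g => ⟨⟨((g : D) : commutator Spor.Fi24), hmem g g.2⟩, ?_⟩) ?_
    · exact mem_centralizer_singleton_iff.2 (Subtype.ext (hDs g (g : D).2).eq)
    · intro x y hxy
      exact Subtype.ext (Subtype.ext (Subtype.ext
        (congrArg (fun t : centralizer ({s'} : Set K) => ((t : K) : Spor.Fi24)) hxy)))
  have h2 := Fi23A.card_le_of_ker π hker' s'
  have h3 := H759.Ore.Fi22Cent.card_le (MulEquiv.refl Spor.Fi22) (Fi23A.orderOf_three π hzz hker' hs')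
  have h4 : Nat.card H ≤ 2 * 19595520 := (hH.trans h2).trans (Nat.mul_le_mul_left 2 h3)
  omega

end Cfsg.Agent.H868.Ore.Fi24A
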