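import Cfsg.Agent.H55.CoOneBd
import Cfsg.Agent.KFacts.Co1D4.Main
import Cfsg.Agent.H812.CoFiveMain
import Cfsg.Agent.H713.B0R.CoOne
import Cfsg.Agent.H518.Co13
import Cfsg.Agent.H572.CoFiveThree
import Cfsg.Agent.CpAutCoFive.Core
import Cfsg.Agent.CoFive.FixRank
import Cfsg.Agent.LThreeMBTr.Main
import Cfsg.Agent.H320.O8.NoOrd

/-!
# `Co1`: elements whose order is divisible by 9, and elements with a power of class 5C (helper868, cluster ORE)

`w` = `TwoB.w` (class 2B).

* `nine` : `9 ∣ |g|`: an involution not conjugate to `w` commutes with `g`, or `|C(g)| ≤ 19683`;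
* `fiveC` : `y ∈ ⟨g⟩`, `y` of order five with 16 fixed points on `Λ / 2Λ`: an involution not conjugate to `w` commutes
  with `g`, or `|C(g)| ≤ 5625`.
-/

set_option autoImplicit false

namespace Cfsg.Agent.H868.Ore.Co1

open Cfsg Subgroup Module
open Cfsg.Agent.SigZeroCo2.Rank (fix mem_fix)
open Cfsg.Agent.SigZeroCo2.Lin (rep Sp)
open Cfsg.Agent.SporadicA.Co0Mono Cfsg.Agent.SporadicA.Co1Simple
open Cfsg.Agent.CoOneType.ClosingFacts (mk mk_mul mk_inv exists_mk mk_eq_one mk_eq)
open Cfsg.Agent.LThreeMB (fr XX Zx)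
open Cfsg.Agent.H55.CoOneBd (card_co1 card_cent_dvd exists_lift finite_co1)
open Cfsg.Agent.CpAutCoFive (mv mv_inv eq_zero_of_fix finrank_add finrank_Sp rep_pow_one sixteen_le fix_of_coprime
  le_fix_nine dvd_finrank_sub)
open Cfsg.Agent.KFacts.Co1D4
open Cfsg.Spor (Co1)

/-- lifts of odd order -/
theorem exists_lift' {s : Co1} {n : ℕ} (hn : Odd n) (hs : orderOf s = n) : ∃ a : Co0, mk a = s ∧ orderOf a = n := by
  obtain ⟨a, ha, han⟩ := LThreeBX.NoSeven.exists_odd hn (show s ^ n = 1 by rw [← hs, pow_orderOf_eq_one])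
  refine ⟨a, ha, Nat.dvd_antisymm (orderOf_dvd_of_pow_eq_one han) ?_⟩
  rw [← hs, ← ha]
  exact orderOf_map_dvd (QuotientGroup.mk' (center Co0)) a

/-- elements of order nine do not commute with an element of order five fixing a vector -/
theorem no_45 {x y : Co0} (hx : orderOf x = 5) (hf : finrank ℚ (fix (rep x)) ≠ 0) (hy : orderOf y = 9)
    (hxy : Commute x y) : False := by
  obtain ⟨e, he, he0⟩ := Submodule.exists_mem_ne_zero_of_ne_bot (p := fix (rep x)) (fun h => hf (by
    rw [h, finrank_bot]))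
  have h1 := le_fix_nine finrank_Sp (rep_pow_one hx) (rep_pow_one hy) (hxy.map rep) he0 (mem_fix.1 he)
  rw [← map_pow] at h1
  have h2 := (sixteen_le hx).trans (Submodule.finrank_mono h1)
  have hy3 : orderOf (y ^ 3) = 3 := by
    rw [orderOf_pow_of_dvd (by norm_num) (by rw [hy]; norm_num), hy]
  have h3 : (y ^ 3) ^ 3 = 1 := orderOf_dvd_iff_pow_eq_one.1 (by rw [hy3])
  have h4 := CoFive.FixRank.fr_eq (by decide : Odd 3) h3
  have h5 : orderOf (QuotientGroup.mk (y ^ 3) : Co1) = 3 := by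
    refine orderOf_eq_prime (p := 3) ?_ ?_
    · rw [← QuotientGroup.mk_pow, h3]; rfl
    · intro h
      rcases (CoOneType.ClosingFacts.mk_eq_one (y ^ 3)).1 h with h6 | h6
      · rw [h6, orderOf_one] at hy3
        norm_num at hy3
      · have h7 : (y ^ 3) ^ 2 = 1 := by rw [h6, pow_two]; exact signCo0_mul_self _
        have h8 := orderOf_dvd_of_pow_eq_one h7
        rw [hy3] at h8
        norm_num at h8
  have hp : ∀ m : ℕ, m < 16 → (2 : ℕ) ^ finrank ℚ (fix (rep (y ^ 3))) ≠ 2 ^ m := by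
    intro m hm h6
    have := Nat.pow_right_injective le_rfl h6
    omega
  rcases LThreeCo1.Ranks.ranks _ h5 with h | h | h | h
  · rw [h4] at h; exact hp 0 (by norm_num) (by rw [h, pow_zero])
  · rw [h4] at h; exact hp 6 (by norm_num) h
  · rw [h4] at h; exact hp 8 (by norm_num) h
  · rw [h4] at h; exact hp 12 (by norm_num) h

/-- an element of class 5C does not commute with an involution of class 2B -/
theorem no_w_five {y : Co1} (hy : orderOf y = 5) (hf : fr y = 2 ^ 4) (hc : y * TwoB.w = TwoB.w * y) : False := by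
  obtain ⟨a, rfl, ha5, ha⟩ := exists_lift (by norm_num) (by norm_num) hy
  have hak : a * TwoB.k = TwoB.k * a := LThreeBX.NoSeven.comm_of_mk (by decide : Odd 5) ha5 hc
  have h4 : finrank ℚ (fix (rep a)) = 4 := CoFiveC.Main.finrank_of_fr ha hf
  have h20 := finrank_add (u := rep a) (r := 5) (by norm_num) (rep_pow_one ha)
  rw [h4, finrank_Sp] at h20
  have hcomm : Commute TwoB.k a := hak.symm
  have hk4 : TwoB.k ^ 4 = 1 := by
    have h1 : TwoB.k ^ 4 = (TwoB.k * TwoB.k) * (TwoB.k * TwoB.k) := by simp only [pow_succ, pow_zero, one_mul, mul_assoc]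
    rw [h1, TwoB.k_sq, signCo0_mul_self]
  have h10 : (TwoB.k * a) ^ 10 = signCo0 allOne := by
    rw [hcomm.mul_pow, show (10 : ℕ) = 5 * 2 by norm_num, pow_mul a, ha5, one_pow, mul_one,
      show (5 * 2 : ℕ) = 4 * 2 + 2 by norm_num, pow_add, pow_mul, hk4, one_pow, one_mul, pow_two, TwoB.k_sq]
  have hf4 : (TwoB.k * a) ^ 4 = a ^ 4 := by rw [hcomm.mul_pow, hk4, one_mul]
  have h8 : Nat.totient 20 ∣ finrank ℚ (mv (rep a) 5) := by
    refine dvd_finrank_sub (n := 20) (by norm_num) (f := rep (TwoB.k * a)) ?_ (fun v hv => mv_inv ?_ hv) ?_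
    · rw [← map_pow, show (20 : ℕ) = 10 * 2 by norm_num, pow_mul, h10, pow_two, signCo0_mul_self, map_one]
    · exact (hcomm.mul_left (Commute.refl a)).map rep
    · intro p hp hpn v hv hv'
      have h25 : p = 2 ∨ p = 5 := by
        have h1 : p ∣ 2 ^ 2 * 5 := by simpa using hpn
        rcases (hp.dvd_mul).1 h1 with h2 | h2
        · exact Or.inl ((Nat.prime_dvd_prime_iff_eq hp Nat.prime_two).1 (hp.dvd_of_dvd_pow h2))
        · exact Or.inr ((Nat.prime_dvd_prime_iff_eq hp (by norm_num)).1 h2)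
      rcases h25 with rfl | rfl
      · rw [← map_pow, show 20 / 2 = 10 by norm_num, h10, LThreeMBTr.rep_neg] at hv'
        have h1 : -v = v := hv'
        have h2 : (2 : ℚ) • v = 0 := by
          rw [two_smul]
          nth_rewrite 1 [← h1]
          exact neg_add_cancel v
        exact (smul_eq_zero.1 h2).resolve_left (by norm_num)
      · rw [← map_pow, show 20 / 5 = 4 by norm_num, hf4, map_pow] at hv'
        exact eq_zero_of_fix (by norm_num)
          (fix_of_coprime (x := rep a) (a := 4) (b := 5) (by norm_num) (by norm_num) hv' (by rw [rep_pow_one ha]; rfl)) hv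
  have h9 : finrank ℚ (mv (rep a) 5) = 20 := by omega
  rw [h9] at h8
  have h11 : Nat.totient 20 = 8 := by decide
  rw [h11] at h8
  norm_num at h8

/-- an element of order nine does not commute with an involution of class 2B -/
theorem no_w_nine {x : Co1} (hx : orderOf x = 9) (hc : x * TwoB.w = TwoB.w * x) : False := by
  have := finite_co1
  have S := Main.setup
  set C := centralizer ({TwoB.w} : Set Co1) with hC
  have hcard : Nat.card C ∣ 8 * 251596800 := by
    have h1 : Nat.card C = Nat.card S.ZL * (S.ZL.subgroupOf C).index := by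
      rw [← Subgroup.card_mul_index (S.ZL.subgroupOf C)]
      congr 1
      exact Nat.card_congr (subgroupOfEquivOfLe S.ZL_le).toEquiv
    rw [h1, S.card_ZL, GTwo.card_L]
    rcases S.index_cases with h | h
    · rw [h]; norm_num
    · rw [h]
  have hJC : H812.CoFiveJ.J ≤ C := fun j hj =>
    mem_centralizer_singleton_iff.2 (TwoB.Lw j (H812.CoFiveJ.J_le_L hj))
  obtain ⟨e⟩ := H812.CoFiveMain.isoJ2_J
  have hJ : Nat.card H812.CoFiveJ.J = 604800 := by
    rw [Nat.card_congr e.toEquiv]
    exact Cfsg.Agent.S1619.result.2.2.2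
  let e' : (H812.CoFiveJ.J.subgroupOf C) ≃* H812.CoFiveJ.J := subgroupOfEquivOfLe hJC
  have hJ' : Nat.card (H812.CoFiveJ.J.subgroupOf C) = 604800 := by rw [Nat.card_congr e'.toEquiv, hJ]
  have hidx : ¬ 3 ∣ (H812.CoFiveJ.J.subgroupOf C).index := by
    intro h3
    have h1 := Subgroup.card_mul_index (H812.CoFiveJ.J.subgroupOf C)
    rw [hJ'] at h1
    have h2 : 604800 * 3 ∣ 8 * 251596800 := by
      refine dvd_trans ?_ hcard
      rw [← h1]
      exact Nat.mul_dvd_mul_left _ h3
    norm_num at h2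
  obtain ⟨j, hj⟩ := H320.O8.NoOrd.exists_order_of_index (H812.CoFiveJ.J.subgroupOf C) Nat.prime_three hidx
    (g := (⟨x, mem_centralizer_singleton_iff.2 hc⟩ : C)) (k := 2) (by rw [Subgroup.orderOf_mk, hx]; norm_num)
  exact H320.O8.NoOrd.j2_no_nine (e'.trans e) hJ' j (by rw [hj]; norm_num)

/-- an element of order nine does not commute with an element of order five -/
theorem no_five_nine {x y : Co1} (hx : orderOf x = 9) (hy : orderOf y = 5) (hc : x * y = y * x) : False := by
  have := finite_co1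
  by_cases h1 : fr y = 1
  · obtain ⟨e⟩ := MFive.JTwo.isoJ2 hy h1
    have hJ : Nat.card (XX y) = 604800 := by
      rw [Nat.card_congr e.toEquiv]
      exact Cfsg.Agent.S1619.result.2.2.2
    refine H320.O8.NoOrd.j2_no_nine e hJ (LThreeMB.mk y hc) ?_
    have hpow : ∀ k : ℕ, (LThreeMB.mk y hc) ^ k = 1 → 9 ∣ k := by
      intro k hk
      have hck : x ^ k * y = y * x ^ k := (show Commute x y from hc).pow_left k
      have h2 : (LThreeMB.mk y hc) ^ k = LThreeMB.mk y hck := rfl
      rw [h2, LThreeMB.mk_eq_one] at hk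
      obtain ⟨i, hi⟩ := hk
      have h3 : x ^ (k * 5) = 1 := by
        rw [pow_mul, ← hi, ← zpow_natCast, ← zpow_mul, mul_comm, zpow_mul, zpow_natCast, ← hy, pow_orderOf_eq_one,
          one_zpow]
      have h4 := orderOf_dvd_of_pow_eq_one h3
      rw [hx] at h4
      exact (by norm_num : Nat.Coprime 9 5).dvd_of_dvd_mul_right h4
    refine Nat.dvd_antisymm ?_ (hpow _ (pow_orderOf_eq_one _))
    apply orderOf_dvd_of_pow_eq_one
    have hck : x ^ 9 * y = y * x ^ 9 := (show Commute x y from hc).pow_left 9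
    have h2 : (LThreeMB.mk y hc) ^ 9 = LThreeMB.mk y hck := rfl
    rw [h2, LThreeMB.mk_eq_one]
    exact ⟨0, by rw [zpow_zero, ← hx, pow_orderOf_eq_one]⟩
  · obtain ⟨a, rfl, ha5, ha⟩ := exists_lift (by norm_num) (by norm_num) hy
    obtain ⟨b, rfl, hb⟩ := exists_lift' (by decide : Odd 9) hx
    refine no_45 ha ?_ hb ?_
    · intro h0
      apply h1
      rw [CoFive.FixRank.fr_eq (by decide : Odd 5) ha5, h0, pow_zero]
    · exact LThreeBX.NoSeven.comm_of_mk (by decide : Odd 5) ha5 hc.symm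

/-- an involution commuting with `g` is not conjugate to `w` if a power of `g` commutes with no conjugate of `w` -/
theorem step {g x : Co1} (hxg : x ∈ zpowers g) (hno : ∀ x' : Co1, IsConj x x' → x' * TwoB.w = TwoB.w * x' → False) :
    (∃ t : Co1, orderOf t = 2 ∧ t * g = g * t ∧ ¬ IsConj TwoB.w t) ∨
      ¬ 2 ∣ Nat.card (centralizer ({g} : Set Co1)) := by
  have := finite_co1
  by_cases h2 : 2 ∣ Nat.card (centralizer ({g} : Set Co1))
  · left
    have : Fact (Nat.Prime 2) := ⟨Nat.prime_two⟩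
    obtain ⟨t, ht⟩ := exists_prime_orderOf_dvd_card' (G := centralizer ({g} : Set Co1)) 2 h2
    have htg := mem_centralizer_singleton_iff.1 t.2
    refine ⟨t, (orderOf_coe t).trans ht, htg, fun hconj => ?_⟩
    obtain ⟨c, hc⟩ := isConj_iff.1 hconj
    obtain ⟨n, rfl⟩ := hxg
    have hcomm : Commute (g ^ n) (t : Co1) := (show Commute g (t : Co1) from htg.symm).zpow_left n
    refine hno (c⁻¹ * g ^ n * c) (isConj_iff.2 ⟨c⁻¹, by rw [inv_inv]⟩) ?_
    have h3 : TwoB.w = c⁻¹ * (t : Co1) * c := by rw [← hc]; group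
    rw [h3]
    calc c⁻¹ * g ^ n * c * (c⁻¹ * (t : Co1) * c) = c⁻¹ * (g ^ n * t) * c := by group
      _ = c⁻¹ * (t * g ^ n) * c := by rw [hcomm.eq]
      _ = c⁻¹ * (t : Co1) * c * (c⁻¹ * g ^ n * c) := by group
  · exact Or.inr h2

theorem cent_le {g x : Co1} (hxg : x ∈ zpowers g) : centralizer ({g} : Set Co1) ≤ centralizer ({x} : Set Co1) := by
  intro c hc
  rw [mem_centralizer_singleton_iff] at hc ⊢
  obtain ⟨n, rfl⟩ := hxg
  exact (show Commute c g from hc).zpow_right n

/-- **elements with a power of class 5C** -/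
theorem fiveC {g y : Co1} (hy : orderOf y = 5) (hf : fr y = 2 ^ 4) (hyg : y ∈ zpowers g) :
    (∃ t : Co1, orderOf t = 2 ∧ t * g = g * t ∧ ¬ IsConj TwoB.w t) ∨
      Nat.card (centralizer ({g} : Set Co1)) ≤ 5625 := by
  have := finite_co1
  rcases step hyg (fun y' hyy' hc => no_w_five (y := y') (by
      obtain ⟨c, hc⟩ := isConj_iff.1 hyy'
      rw [← hy, ← hc]
      exact MulEquiv.orderOf_eq (MulAut.conj c) y) (by
      rw [← CoFive.Ranks.fr_of_isConj hyy']; exact hf) hc) with h | h2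
  · exact Or.inl h
  right
  have hd1 : Nat.card (centralizer ({g} : Set Co1)) ∣ Nat.card (centralizer ({y} : Set Co1)) :=
    Subgroup.card_dvd_of_le (cent_le hyg)
  have h3 := H572.CoFiveThree.cent_five_four hy hf
  have hd2 : Nat.card (centralizer ({y} : Set Co1)) ∣ 2 ^ 22 * 455625 := by
    obtain ⟨a, rfl, ha, hao⟩ := exists_lift (by norm_num) (by norm_num) hy
    exact (card_cent_dvd (by decide) ha).trans (H55.CoOneLow.five_dvd hao (CoFiveC.Main.finrank_of_fr hao hf))
  have h0 : Nat.card (centralizer ({g} : Set Co1)) ≠ 0 := Nat.card_pos.ne'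
  have h4 := H813.CoSevenCard.reduce (p := 2) (by norm_num) 22 0 h0 (M := 455625) (hd1.trans hd2) (by
    rw [zero_add, pow_one]; exact h2)
  have h5 := H813.CoSevenCard.reduce (p := 3) (by norm_num) 6 2 h0 (M := 625) (h4.trans (by norm_num))
    (fun h => h3 (h.trans hd1))
  exact Nat.le_of_dvd (by norm_num) (h5.trans (by norm_num))

/-- **elements whose order is divisible by nine** -/
theorem nine {g : Co1} (h9 : 9 ∣ orderOf g) :
    (∃ t : Co1, orderOf t = 2 ∧ t * g = g * t ∧ ¬ IsConj TwoB.w t) ∨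
      Nat.card (centralizer ({g} : Set Co1)) ≤ 19683 := by
  have := finite_co1
  obtain ⟨m, hm⟩ := h9
  have hm0 : m ≠ 0 := by
    rintro rfl
    have := orderOf_pos g
    omega
  have hx : orderOf (g ^ m) = 9 := by
    rw [orderOf_pow_of_dvd hm0 ⟨9, by rw [hm, mul_comm]⟩, hm]
    exact Nat.mul_div_cancel _ (Nat.pos_of_ne_zero hm0)
  have hxg : g ^ m ∈ zpowers g := ⟨m, by simp⟩
  rcases step hxg (fun x' hxx' hc => no_w_nine (x := x') (by
      obtain ⟨c, hc⟩ := isConj_iff.1 hxx'
      rw [← hx, ← hc]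
      exact MulEquiv.orderOf_eq (MulAut.conj c) _) hc) with h | h2
  · exact Or.inl h
  right
  have h0 : Nat.card (centralizer ({g} : Set Co1)) ≠ 0 := Nat.card_pos.ne'
  -- primes
  have hprime : ∀ p : ℕ, p.Prime → (∀ y : Co1, orderOf y = p → g ^ m * y = y * g ^ m → False) →
      ¬ p ∣ Nat.card (centralizer ({g} : Set Co1)) := by
    intro p hp hno hd
    have : Fact p.Prime := ⟨hp⟩
    obtain ⟨y, hy⟩ := exists_prime_orderOf_dvd_card' (G := centralizer ({g} : Set Co1)) p hd
    have hyg := mem_centralizer_singleton_iff.1 y.2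
    exact hno y ((orderOf_coe y).trans hy) ((show Commute g (y : Co1) from hyg.symm).pow_left m)
  have hp5 := hprime 5 (by norm_num) fun y hy hc => no_five_nine hx hy hc
  have hp7 := hprime 7 (by norm_num) fun y hy hc => H713.B0R.CoOne.co1_no hy hx hc.symm
  have hp13 := hprime 13 (by norm_num) fun y hy hc => by
    obtain ⟨a, rfl, ha5, ha⟩ := exists_lift (by norm_num) (by norm_num) hy
    obtain ⟨b, hb1, hb⟩ := exists_lift' (by decide : Odd 9) hx
    rw [← hb1] at hc
    exact H518.Co13.no_nine ha hb (LThreeBX.NoSeven.comm_of_mk (by decide : Odd 13) ha5 hc.symm).symm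
  have hbig : ∀ (p B : ℕ) (y : Co1), p.Prime → p ≠ 3 → orderOf y = p → B < p * 9 →
      H55.CoOneBd.OddLe (Nat.card (centralizer ({y} : Set Co1))) B → p ≠ 2 → g ^ m * y = y * g ^ m → False := by
    rintro p B y hp hp3 hy hB ⟨k, hk0, hkB, hk⟩ hp2 hc
    have h3 : 9 ∣ Nat.card (centralizer ({y} : Set Co1)) := by
      rw [← hx, ← orderOf_mk (g ^ m) (mem_centralizer_singleton_iff.2 hc : g ^ m ∈ centralizer ({y} : Set Co1))]
      exact orderOf_dvd_natCard _
    have h4 : p ∣ Nat.card (centralizer ({y} : Set Co1)) := by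
      rw [← hy, ← orderOf_mk y (mem_centralizer_singleton_iff.2 rfl : y ∈ centralizer ({y} : Set Co1))]
      exact orderOf_dvd_natCard _
    have hcop : Nat.Coprime p 9 := by
      rw [show (9 : ℕ) = 3 ^ 2 by norm_num]
      exact Nat.Coprime.pow_right 2 ((Nat.coprime_primes hp Nat.prime_three).2 hp3)
    have h5 : p * 9 ∣ 2 ^ 22 * k := (hcop.mul_dvd_of_dvd_of_dvd h4 h3).trans hk
    have h6 : Nat.Coprime (p * 9) (2 ^ 22) := by
      refine Nat.Coprime.pow_right 22 (Nat.Coprime.mul_left ?_ (by norm_num))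
      exact (Nat.coprime_primes hp Nat.prime_two).2 hp2
    have h7 := Nat.le_of_dvd (Nat.pos_of_ne_zero hk0) (h6.dvd_of_dvd_mul_left h5)
    omega
  have hp11 := hprime 11 (by norm_num) fun y hy hc => hbig 11 33 y (by norm_num) (by norm_num) hy (by norm_num)
    (H55.CoOneBd.bd_eleven hy) (by norm_num) hc
  have hp23 := hprime 23 (by norm_num) fun y hy hc => hbig 23 46 y (by norm_num) (by norm_num) hy (by norm_num)
    (H55.CoOneBd.bd_23 hy) (by norm_num) hc
  have hd : Nat.card (centralizer ({g} : Set Co1)) ∣ 4157776806543360000 := by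
    rw [← card_co1]; exact Subgroup.card_subgroup_dvd_card _
  have h1 := H813.CoSevenCard.reduce (p := 2) (by norm_num) 21 0 h0 (M := 3 ^ 9 * (5 ^ 4 * (7 ^ 2 * (11 * (13 * 23)))))
    (hd.trans (by norm_num)) (by rw [zero_add, pow_one]; exact h2)
  have h3 := H813.CoSevenCard.reduce (p := 5) (by norm_num) 4 0 h0 (M := 3 ^ 9 * (7 ^ 2 * (11 * (13 * 23))))
    (h1.trans (by norm_num)) (by rw [zero_add, pow_one]; exact hp5)
  have h4 := H813.CoSevenCard.reduce (p := 7) (by norm_num) 2 0 h0 (M := 3 ^ 9 * (11 * (13 * 23)))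
    (h3.trans (by norm_num)) (by rw [zero_add, pow_one]; exact hp7)
  have h5 := H813.CoSevenCard.reduce (p := 11) (by norm_num) 1 0 h0 (M := 3 ^ 9 * (13 * 23))
    (h4.trans (by norm_num)) (by rw [zero_add, pow_one]; exact hp11)
  have h6 := H813.CoSevenCard.reduce (p := 13) (by norm_num) 1 0 h0 (M := 3 ^ 9 * 23)
    (h5.trans (by norm_num)) (by rw [zero_add, pow_one]; exact hp13)
  have h7 := H813.CoSevenCard.reduce (p := 23) (by norm_num) 1 0 h0 (M := 3 ^ 9)
    (h6.trans (by norm_num)) (by rw [zero_add, pow_one]; exact hp23)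
  exact Nat.le_of_dvd (by norm_num) (h7.trans (by norm_num))

end Cfsg.Agent.H868.Ore.Co1
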