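import Cfsg.Agent.H630.Ore.Co1.Frame
import Cfsg.Agent.H868.Ore.CoOne

/-!
# Row `Co1` of S2443: the inputs `nine` and `fiveC` of the frame (helper868)
-/

set_option autoImplicit false

namespace Cfsg.Agent.H868.Ore.Co1

open Cfsg Subgroup
open Cfsg.Agent.LThreeMB (fr)
open Cfsg.Agent.H777.Ore
open Cfsg.Agent.H630.Ore.Co1
open Cfsg.Agent.KFacts.Co1D4
open Cfsg.Spor (Co1)

/-- an involution of class 2A or 2C commutes with `g` -/
theorem isC_of_inv (hO : H6.ORE.CoOne.OreO8) {g : Co1} (hg : g ≠ 1)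
    (h : ∃ t : Co1, orderOf t = 2 ∧ t * g = g * t ∧ ¬ IsConj TwoB.w t) : IsC g := by
  obtain ⟨t, ht, htg, hw⟩ := h
  have h1 : t * t = 1 := by rw [← pow_two, ← ht, pow_orderOf_eq_one]
  have h2 : t ≠ 1 := by
    rintro rfl
    rw [orderOf_one] at ht
    norm_num at ht
  rcases inv_cases h1 h2 with h | h | h
  · exact isC_of_inA hO ⟨t, h, htg.symm⟩ hg
  · exact isC_of_isD h htg.symm
  · exact absurd h hw

/-- the input `nine` -/
theorem isC_nine (hO : H6.ORE.CoOne.OreO8) (hK : ∀ g : Co1, Bd 38726 g → IsC g) (g : Co1) (h9 : 9 ∣ orderOf g) :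
    IsC g := by
  rcases nine h9 with h | h
  · refine isC_of_inv hO ?_ h
    rintro rfl
    rw [orderOf_one] at h9
    norm_num at h9
  · exact hK g (h.trans (by norm_num))

/-- the input `fiveC` -/
theorem isC_fiveC (hO : H6.ORE.CoOne.OreO8) (hK : ∀ g : Co1, Bd 38726 g → IsC g) (y g : Co1) (hy : orderOf y = 5)
    (hf : fr y = 2 ^ 4) (hyg : y ∈ zpowers g) : IsC g := by
  rcases fiveC hy hf hyg with h | h
  · refine isC_of_inv hO ?_ h
    rintro rfl
    rw [zpowers_one_eq_bot, mem_bot] at hyg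
    rw [hyg, orderOf_one] at hy
    norm_num at hy
  · exact hK g (h.trans (by norm_num))

end Cfsg.Agent.H868.Ore.Co1
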