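import Cfsg.Agent.H868.Ore.FiveB

/-!
# Centralizers of elements of order five of orthogonal groups of dimension eight over `ZMod 2`, the second case (helper868)

* `four_step` : a group acting on a space of order four has order at most six modulo the kernel;
* `five_four` : `ρ s` of order five with 16 fixed vectors: `|A| ≤ 840 |ker ρ|`;
* `five` : both cases.
-/

set_option autoImplicit false

namespace Cfsg.Agent.H868.Ore.Lin

open Module

variable {V : Type*} [AddCommGroup V] [Module (ZMod 2) V]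
variable {A : Type*} [Group A] (ρ : A →* (V ≃ₗ[ZMod 2] V))

theorem four_step [Finite A] [Finite V] (H : Subgroup A) {F : Submodule (ZMod 2) V} (hcF : Nat.card F = 4)
    (hHF : ∀ h ∈ H, ∀ v ∈ F, ρ h v ∈ F) (K : Subgroup A) (hK : ∀ a ∈ H, (∀ v ∈ F, ρ a v = v) → a ∈ K) :
    Nat.card H ≤ 6 * Nat.card K := by
  classical
  obtain ⟨x, hx, hx0⟩ : ∃ x ∈ F, x ≠ 0 := by
    by_contra hcon
    push Not at hcon
    have : {v : V | v ∈ F ∧ v ≠ 0} = ∅ := by
      ext v
      simp only [Set.mem_ofPred_eq, Set.mem_empty_iff_false, iff_false, not_and, not_not]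
      exact hcon v
    have h1 := ncard_nz F
    rw [this, Set.ncard_empty] at h1
    omega
  obtain ⟨y, hy, hy0, hyx⟩ : ∃ y ∈ F, y ≠ 0 ∧ y ≠ x := by
    by_contra hcon
    push Not at hcon
    have : {v : V | (v ∈ F ∧ v ≠ 0) ∧ v ≠ x} = ∅ := by
      ext v
      simp only [Set.mem_ofPred_eq, Set.mem_empty_iff_false, iff_false, not_and, not_not, and_imp]
      exact hcon v
    have h1 := ncard_nz_diff F hx hx0
    rw [this, Set.ncard_empty] at h1
    omega
  have s1 := step ρ H x {v : V | v ∈ F ∧ v ≠ 0} (fun h hh => ⟨hHF h hh x hx, fun h0 => hx0 ((ρ h).map_eq_zero_iff.1 h0)⟩)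
    (n := 3) (by
      rw [Nat.card_coe_set_eq]
      have := ncard_nz F
      omega)
  have s2 := step ρ (H ⊓ stab ρ x) y {v : V | (v ∈ F ∧ v ≠ 0) ∧ v ≠ x}
    (fun h hh => ⟨⟨hHF h hh.1 y hy, fun h0 => hy0 ((ρ h).map_eq_zero_iff.1 h0)⟩, fun h1 => hyx (by
      apply (ρ h).injective
      rw [h1]
      exact (hh.2 : ρ h x = x).symm)⟩)
    (n := 2) (by
      rw [Nat.card_coe_set_eq]
      have := ncard_nz_diff F hx hx0
      omega)
  have hFall : ∀ v ∈ F, v = 0 ∨ v = x ∨ v = y ∨ v = x + y := by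
    intro v hv
    by_contra hcon
    push Not at hcon
    obtain ⟨c1, c2, c3, c4⟩ := hcon
    have h1 : ({0, x, y, x + y, v} : Finset V).card = 5 := by
      have hxy0 : x + y ≠ 0 := by
        intro h
        apply hyx
        rw [← neg_eq x]
        exact (eq_neg_of_add_eq_zero_right h)
      have e1 : x + y ≠ x := fun h => hy0 (by simpa using h)
      have e2 : x + y ≠ y := fun h => hx0 (by simpa using h)
      rw [Finset.card_insert_of_notMem, Finset.card_insert_of_notMem, Finset.card_insert_of_notMem,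
        Finset.card_insert_of_notMem, Finset.card_singleton]
      · simp [Ne.symm c4]
      · simp [e2.symm, Ne.symm c3]
      · simp [Ne.symm hyx, Ne.symm c2, hy0]
      · simp [Ne.symm hx0, Ne.symm hy0, Ne.symm hxy0, Ne.symm c1]
    have h2 : (({0, x, y, x + y, v} : Finset V) : Set V) ⊆ (F : Set V) := by
      intro u hu
      simp only [Finset.coe_insert, Finset.coe_singleton, Set.mem_insert_iff, Set.mem_singleton_iff] at hu
      rcases hu with rfl | rfl | rfl | rfl | rfl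
      · exact zero_mem F
      · exact hx
      · exact hy
      · exact add_mem hx hy
      · exact hv
    have h3 := Set.ncard_le_ncard h2 (Set.toFinite _)
    rw [Set.ncard_coe_finset, h1, ← Nat.card_coe_set_eq] at h3
    change 5 ≤ Nat.card F at h3
    omega
  have hKK : H ⊓ stab ρ x ⊓ stab ρ y ≤ K := by
    rintro a ⟨⟨h1, h2⟩, h3⟩
    have h2' : ρ a x = x := h2
    have h3' : ρ a y = y := h3
    refine hK a h1 fun f hf => ?_
    rcases hFall f hf with rfl | rfl | rfl | rfl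
    · exact map_zero _
    · exact h2'
    · exact h3'
    · rw [map_add, h2', h3']
  have hfin := Subgroup.card_le_of_le hKK
  calc Nat.card H ≤ 3 * (2 * Nat.card K) := s1.trans (Nat.mul_le_mul_left 3 (s2.trans (Nat.mul_le_mul_left 2 hfin)))
    _ = 6 * Nat.card K := by ring

section main

variable [Finite A] [Finite V] (hV : Nat.card V = 256) {s : A} (hs : ∀ a, a * s = s * a) (h5 : orderOf (ρ s) = 5)
  {q : V → ZMod 2} {b : LinearMap.BilinForm (ZMod 2) V} (hq : ∀ u v, q (u + v) = q u + q v + b u v)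
  (hb : ∀ v, (∀ w, b v w = 0) → v = 0) (hqa : ∀ a v, q (ρ a v) = q v)

theorem zmod_two (a : ZMod 2) : a = 0 ∨ a = 1 := by revert a; decide

include hV hs h5 hq hb hqa in
/-- 16 fixed vectors -/
theorem five_four (h4 : Nat.card (mv (ρ s ^ 1)) = 16) : Nat.card A ≤ 840 * Nat.card ρ.ker := by
  classical
  set σ := ρ s with hσ
  set W := mv (σ ^ 1) with hW
  set F := fx (σ ^ 1) with hF
  have hσ5 : (σ ^ 1) ^ 5 = 1 := by rw [← pow_mul, one_mul, ← h5, pow_orderOf_eq_one]
  have hcomm : ∀ a, ρ a * σ = σ * ρ a := fun a => by rw [hσ, ← map_mul, ← map_mul, hs a]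
  have hcF : Nat.card F = 16 := by
    have h1 := card_mul (σ ^ 1)
    rw [hV] at h1
    change Nat.card F * Nat.card W = 256 at h1
    rw [h4] at h1
    omega
  have hAW : ∀ a : A, ∀ w ∈ W, ρ a w ∈ W := fun a => mv_inv ρ (hs a) 1
  have hAF : ∀ a : A, ∀ w ∈ F, ρ a w ∈ F := fun a => fx_inv ρ (hs a) 1
  have hFW : ∀ f ∈ F, ∀ w ∈ W, b f w = 0 := by
    intro f hf w hw
    obtain ⟨u, rfl⟩ := mem_mv.1 hw
    rw [mem_fx, pow_one] at hf
    rw [pow_one, map_sub]
    have h1 := b_act ρ hq hqa s f u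
    rw [← hσ, hf] at h1
    rw [h1, sub_self]
  have hWn : ∀ w ∈ W, (∀ w' ∈ W, b w w' = 0) → w = 0 := by
    intro w hw h1
    apply hb
    intro v
    obtain ⟨f, hf, w', hw', rfl⟩ := exists_add (by decide : Odd 5) hσ5 v
    rw [map_add, h1 w' hw', b_comm hq, hFW f hf w hw, add_zero]
  have hFn : ∀ f ∈ F, (∀ f' ∈ F, b f f' = 0) → f = 0 := by
    intro f hf h1
    apply hb
    intro v
    obtain ⟨f', hf', w', hw', rfl⟩ := exists_add (by decide : Odd 5) hσ5 v
    rw [map_add, h1 f' hf', hFW f hf w' hw', add_zero]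
  obtain ⟨x, hx, y, hy, hx0, hy0, hxy⟩ := exists_ne hq h4 hWn
  have hA := five_step ρ h5 hV hcomm W h4 (fun w hw => hAW s w hw) (five_free h5) hAW hqa hx hx0 hy hy0 hxy
  set K1 := (perm ρ W hAW).ker with hK1
  -- a vector of `F` with at most seven images
  obtain ⟨e1, he1, he10, hS1⟩ : ∃ e1 ∈ F, e1 ≠ 0 ∧ Set.ncard {v : V | (v ∈ F ∧ v ≠ 0) ∧ q v = q e1} ≤ 7 := by
    obtain ⟨x, hx, y, hy, hx0, hy0, hxy⟩ := exists_ne hq hcF hFn
    have h1 : Disjoint {v : V | (v ∈ F ∧ v ≠ 0) ∧ q v = q x} {v : V | (v ∈ F ∧ v ≠ 0) ∧ q v = q y} := by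
      rw [Set.disjoint_left]
      rintro v ⟨-, h1⟩ ⟨-, h2⟩
      exact hxy (h1.symm.trans h2)
    have h2 := Set.ncard_union_eq h1 (Set.toFinite _) (Set.toFinite _)
    have h3 : Set.ncard ({v : V | (v ∈ F ∧ v ≠ 0) ∧ q v = q x} ∪ {v : V | (v ∈ F ∧ v ≠ 0) ∧ q v = q y}) ≤
        Set.ncard {v : V | v ∈ F ∧ v ≠ 0} := by
      apply Set.ncard_le_ncard _ (Set.toFinite _)
      rintro v (hv | hv)
      · exact hv.1
      · exact hv.1
    have h4 := ncard_nz F
    by_cases h5 : Set.ncard {v : V | (v ∈ F ∧ v ≠ 0) ∧ q v = q x} ≤ 7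
    · exact ⟨x, hx, hx0, h5⟩
    · exact ⟨y, hy, hy0, by omega⟩
  obtain ⟨y0, hy0, hby0⟩ : ∃ y0 ∈ F, b e1 y0 = 1 := by
    by_contra hcon
    push Not at hcon
    apply he10
    apply hFn e1 he1
    intro f hf
    rcases zmod_two (b e1 f) with h | h
    · exact h
    · exact absurd h (hcon f hf)
  -- decomposition of `F`
  have hdec : ∀ y ∈ F, b e1 y = 1 → ∀ f ∈ F, ∃ p ∈ F, b e1 p = 0 ∧ b y p = 0 ∧ f = b y f • e1 + b e1 f • y + p := by
    intro y hy hby f hf
    have hye : b y e1 = 1 := by rw [b_comm hq]; exact hby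
    refine ⟨b y f • e1 + b e1 f • y + f, add_mem (add_mem (Submodule.smul_mem _ _ he1) (Submodule.smul_mem _ _ hy)) hf,
      ?_, ?_, ?_⟩
    · rw [map_add, map_add, map_smul, map_smul, b_self hq, hby, smul_zero, zero_add, smul_eq_mul, mul_one]
      exact CharTwo.add_self_eq_zero _
    · rw [map_add, map_add, map_smul, map_smul, b_self hq, hye, smul_zero, add_zero, smul_eq_mul, mul_one]
      exact CharTwo.add_self_eq_zero _
    · have : b y f • e1 + b e1 f • y + (b y f • e1 + b e1 f • y + f) =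
        (b y f • e1 + b y f • e1) + (b e1 f • y + b e1 f • y) + f := by abel
      rw [this, add_self, add_self, zero_add, zero_add]
  -- the vector `e2`
  obtain ⟨e2, he2, hbe2, hS2⟩ : ∃ e2 ∈ F, b e1 e2 = 1 ∧ Set.ncard {v : V | (v ∈ F ∧ b e1 v = 1) ∧ q v = q e2} ≤ 4 := by
    obtain ⟨p, hp, hp1, hp2, hp3⟩ : ∃ p ∈ F, b e1 p = 0 ∧ b y0 p = 0 ∧ q p = 1 := by
      by_contra hcon
      push Not at hcon
      have hc : ∀ p ∈ F, b e1 p = 0 → b y0 p = 0 → q p = 0 := by
        intro p hp h1 h2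
        rcases zmod_two (q p) with h | h
        · exact h
        · exact absurd h (hcon p hp h1 h2)
      have hp0 : ∀ p ∈ F, b e1 p = 0 → b y0 p = 0 → p = 0 := by
        intro p hp h1 h2
        apply hFn p hp
        intro f hf
        obtain ⟨p', hp', h3, h4, h6⟩ := hdec y0 hy0 hby0 f hf
        rw [h6, map_add, map_add, map_smul, map_smul, b_comm hq p e1, h1, b_comm hq p y0, h2, smul_zero, smul_zero,
          zero_add, zero_add, b_eq hq, hc p hp h1 h2, hc p' hp' h3 h4, hc (p + p') (add_mem hp hp')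
          (by rw [map_add, h1, h3, add_zero]) (by rw [map_add, h2, h4, add_zero])]
        rfl
      have h1 : (F : Set V) ⊆ (({0, e1, y0, e1 + y0} : Finset V) : Set V) := by
        intro f hf
        obtain ⟨p', hp', h3, h4, h6⟩ := hdec y0 hy0 hby0 f hf
        rw [h6, hp0 p' hp' h3 h4, add_zero]
        simp only [Finset.coe_insert, Finset.coe_singleton, Set.mem_insert_iff, Set.mem_singleton_iff]
        rcases zmod_two (b y0 f) with h7 | h7 <;> rcases zmod_two (b e1 f) with h8 | h8 <;> rw [h7, h8] <;> simp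
      have h2 := Set.ncard_le_ncard h1 (Set.toFinite _)
      rw [Set.ncard_coe_finset, ← Nat.card_coe_set_eq] at h2
      change Nat.card F ≤ _ at h2
      have h3 : ({0, e1, y0, e1 + y0} : Finset V).card ≤ 4 := Finset.card_le_four
      omega
    have hY1 : b e1 (y0 + p) = 1 := by rw [map_add, hby0, hp1, add_zero]
    have hY2 : q (y0 + p) ≠ q y0 := by
      rw [hq, hp2, hp3, add_zero]
      intro h
      have := add_eq_left.1 h
      exact one_ne_zero this
    have hY8 : Set.ncard {v : V | v ∈ F ∧ b e1 v = 1} ≤ 8 := by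
      have h1 : Set.ncard {v : V | v ∈ F ∧ b e1 v = 1} ≤ Set.ncard {v : V | v ∈ F ∧ b e1 v = 0} := by
        refine Set.ncard_le_ncard_of_injOn (fun v => v + y0) ?_ ?_ (Set.toFinite _)
        · rintro v ⟨hv, hv1⟩
          refine ⟨add_mem hv hy0, ?_⟩
          rw [map_add, hv1, hby0]
          rfl
        · intro u _ v _ huv
          exact add_right_cancel huv
      have h2 : Disjoint {v : V | v ∈ F ∧ b e1 v = 1} {v : V | v ∈ F ∧ b e1 v = 0} := by
        rw [Set.disjoint_left]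
        rintro v ⟨-, h1⟩ ⟨-, h2⟩
        rw [h1] at h2
        exact one_ne_zero h2
      have h3 := Set.ncard_union_eq h2 (Set.toFinite _) (Set.toFinite _)
      have h4 : Set.ncard ({v : V | v ∈ F ∧ b e1 v = 1} ∪ {v : V | v ∈ F ∧ b e1 v = 0}) ≤ Set.ncard (F : Set V) := by
        apply Set.ncard_le_ncard _ (Set.toFinite _)
        rintro v (hv | hv)
        · exact hv.1
        · exact hv.1
      have h6 : Set.ncard (F : Set V) = 16 := by rw [← hcF, ← Nat.card_coe_set_eq]; rfl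
      omega
    have h1 : Disjoint {v : V | (v ∈ F ∧ b e1 v = 1) ∧ q v = q (y0 + p)} {v : V | (v ∈ F ∧ b e1 v = 1) ∧ q v = q y0} := by
      rw [Set.disjoint_left]
      rintro v ⟨-, h1⟩ ⟨-, h2⟩
      exact hY2 (h1.symm.trans h2)
    have h2 := Set.ncard_union_eq h1 (Set.toFinite _) (Set.toFinite _)
    have h3 : Set.ncard ({v : V | (v ∈ F ∧ b e1 v = 1) ∧ q v = q (y0 + p)} ∪ {v : V | (v ∈ F ∧ b e1 v = 1) ∧ q v = q y0}) ≤
        Set.ncard {v : V | v ∈ F ∧ b e1 v = 1} := by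
      apply Set.ncard_le_ncard _ (Set.toFinite _)
      rintro v (hv | hv)
      · exact hv.1
      · exact hv.1
    by_cases h4 : Set.ncard {v : V | (v ∈ F ∧ b e1 v = 1) ∧ q v = q y0} ≤ 4
    · exact ⟨y0, hy0, hby0, h4⟩
    · exact ⟨y0 + p, add_mem hy0 hp, hY1, by omega⟩
  have hbe2' : b e2 e1 = 1 := by rw [b_comm hq]; exact hbe2
  -- the last space
  let P : Submodule (ZMod 2) V :=
    { carrier := {v | v ∈ F ∧ b e1 v = 0 ∧ b e2 v = 0}
      add_mem' := by
        rintro u v ⟨h1, h2, h3⟩ ⟨h1', h2', h3'⟩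
        exact ⟨add_mem h1 h1', by rw [map_add, h2, h2', add_zero], by rw [map_add, h3, h3', add_zero]⟩
      zero_mem' := ⟨zero_mem F, map_zero _, map_zero _⟩
      smul_mem' := by
        rintro c v ⟨h1, h2, h3⟩
        exact ⟨Submodule.smul_mem _ _ h1, by rw [map_smul, h2, smul_zero], by rw [map_smul, h3, smul_zero]⟩ }
  have hcP : Nat.card P = 4 := by
    let f : (ZMod 2 × ZMod 2) × P → F := fun t =>
      ⟨t.1.1 • e1 + t.1.2 • e2 + t.2, add_mem (add_mem (Submodule.smul_mem _ _ he1) (Submodule.smul_mem _ _ he2)) t.2.2.1⟩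
    have hf1 : ∀ t, b e1 (f t : V) = t.1.2 := by
      intro t
      change b e1 (t.1.1 • e1 + t.1.2 • e2 + t.2) = t.1.2
      rw [map_add, map_add, map_smul, map_smul, b_self hq, hbe2, t.2.2.2.1]
      simp
    have hf2 : ∀ t, b e2 (f t : V) = t.1.1 := by
      intro t
      change b e2 (t.1.1 • e1 + t.1.2 • e2 + t.2) = t.1.1
      rw [map_add, map_add, map_smul, map_smul, b_self hq, hbe2', t.2.2.2.2]
      simp
    have hinj : Function.Injective f := by
      rintro ⟨⟨a, c⟩, p⟩ ⟨⟨a', c'⟩, p'⟩ h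
      have h1 := hf1 ⟨⟨a, c⟩, p⟩
      rw [h, hf1] at h1
      have h2 := hf2 ⟨⟨a, c⟩, p⟩
      rw [h, hf2] at h2
      change c' = c at h1
      change a' = a at h2
      subst h1 h2
      have h3 : (a' • e1 + c' • e2 + (p : V)) = a' • e1 + c' • e2 + p' := congrArg Subtype.val h
      rw [Subtype.ext (add_left_cancel h3)]
    have hsurj : Function.Surjective f := by
      rintro ⟨v, hv⟩
      obtain ⟨p, hp, h1, h2, h3⟩ := hdec e2 he2 hbe2 v hv
      exact ⟨⟨⟨b e2 v, b e1 v⟩, ⟨p, hp, h1, h2⟩⟩, Subtype.ext h3.symm⟩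
    have h1 := Nat.card_congr (Equiv.ofBijective f ⟨hinj, hsurj⟩)
    rw [hcF, Nat.card_prod, Nat.card_prod, Nat.card_zmod] at h1
    omega
  have s1 := step ρ K1 e1 {v : V | (v ∈ F ∧ v ≠ 0) ∧ q v = q e1}
    (fun h _ => ⟨⟨hAF h e1 he1, fun h0 => he10 ((ρ h).map_eq_zero_iff.1 h0)⟩, hqa h e1⟩) (n := 7)
    (by rw [Nat.card_coe_set_eq]; exact hS1)
  have s2 := step ρ (K1 ⊓ stab ρ e1) e2 {v : V | (v ∈ F ∧ b e1 v = 1) ∧ q v = q e2}
    (fun h hh => ⟨⟨hAF h e2 he2, by
      have h1 := b_act ρ hq hqa h e1 e2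
      rw [show ρ h e1 = e1 from hh.2] at h1
      rw [h1, hbe2]⟩, hqa h e2⟩) (n := 4)
    (by rw [Nat.card_coe_set_eq]; exact hS2)
  have s3 := four_step ρ (K1 ⊓ stab ρ e1 ⊓ stab ρ e2) hcP (by
    rintro h ⟨⟨-, hh1⟩, hh2⟩ v ⟨hv1, hv2, hv3⟩
    refine ⟨hAF h v hv1, ?_, ?_⟩
    · have h1 := b_act ρ hq hqa h e1 v
      rw [show ρ h e1 = e1 from hh1] at h1
      rw [h1, hv2]
    · have h1 := b_act ρ hq hqa h e2 v
      rw [show ρ h e2 = e2 from hh2] at h1
      rw [h1, hv3]) ρ.ker (by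
    rintro a ⟨⟨h1, h2⟩, h3⟩ h6
    rw [MonoidHom.mem_ker]
    have hw : ∀ w ∈ W, ρ a w = w := by
      intro w hw
      by_cases hw0 : w = 0
      · rw [hw0, map_zero]
      · have h4 : (perm ρ W hAW) a ⟨w, hw, hw0⟩ = ⟨w, hw, hw0⟩ := by
          rw [MonoidHom.mem_ker.1 h1]; rfl
        exact congrArg Subtype.val h4
    have h2' : ρ a e1 = e1 := h2
    have h3' : ρ a e2 = e2 := h3
    have hf : ∀ f ∈ F, ρ a f = f := by
      intro f hf
      obtain ⟨p, hp, h7, h8, h9⟩ := hdec e2 he2 hbe2 f hf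
      rw [h9, map_add, map_add, map_smul, map_smul, h2', h3', h6 p ⟨hp, h7, h8⟩]
    apply LinearEquiv.ext
    intro v
    obtain ⟨f, hf', w, hw', rfl⟩ := exists_add (by decide : Odd 5) hσ5 v
    rw [map_add, hf f hf', hw w hw']
    rfl)
  calc Nat.card A ≤ 5 * (7 * (4 * (6 * Nat.card ρ.ker))) :=
        hA.trans (Nat.mul_le_mul_left 5 (s1.trans (Nat.mul_le_mul_left 7 (s2.trans (Nat.mul_le_mul_left 4 s3)))))
    _ = 840 * Nat.card ρ.ker := by ring

include hV hs h5 hq hb hqa in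
/-- **elements of order five** -/
theorem five : (Nat.card (fx (ρ s)) = 1 ∧ Nat.card A ≤ 1275 * Nat.card ρ.ker) ∨
    (Nat.card (fx (ρ s)) = 16 ∧ Nat.card A ≤ 840 * Nat.card ρ.ker) := by
  have h1 := card_mul (ρ s ^ 1)
  rw [hV] at h1
  rcases card_five h5 hV (mv (ρ s ^ 1)) (fun w hw => mv_inv ρ (hs s) 1 w hw) (five_free h5) with h | h | h
  · exfalso
    have h2 := eq_one_of_card_mv h
    rw [pow_one] at h2
    rw [h2, orderOf_one] at h5
    norm_num at h5
  · right
    rw [h, pow_one] at h1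
    exact ⟨by omega, five_four ρ hV hs h5 hq hb hqa h⟩
  · left
    rw [h, pow_one] at h1
    exact ⟨by omega, five_zero ρ hV hs h5 hq hb hqa h⟩

end main

end Cfsg.Agent.H868.Ore.Lin
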