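import Cfsg.Agent.H868.Ore.Nine
import Cfsg.Agent.H868.Ore.FiveC
import Cfsg.Agent.Co2Type.Quad

/-!
# Elements of order 9 and 5 in the centralizer of a 2-central involution with large subgroup `2^(1+8)` (helper868)

`Large Q z`, `|Q / ⟨z⟩| = 2 ^ 8`: for `s` in `C(z)` of order 9 (resp. 5), `|C(s) ∩ C(z)|` is at most `432` if no element
of order 7 commutes with `s` (resp. at most `2550` or `26880`).
-/

set_option autoImplicit false

namespace Cfsg.Agent.H868.Ore.CoZ

open Subgroup Cfsg.Agent.Co2Type.Quad Cfsg.Agent.H868.Ore.Lin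

variable {G : Type*} [Group G] [Finite G] {Q : Subgroup G} {z : G} (h : Large Q z)

/-- `C(s) ∩ C(z)` -/
abbrev D (z s : G) : Subgroup G := centralizer ({s} : Set G) ⊓ centralizer ({z} : Set G)

/-- its action on `Q / ⟨z⟩` -/
noncomputable def rho (s : G) : D z s →* (h.V ≃ₗ[ZMod 2] h.V) := h.act.comp (inclusion (inf_le_right : D z s ≤ _))

/-- the element `s` itself -/
def el {s : G} (hs : s * z = z * s) : D z s :=
  ⟨s, mem_centralizer_singleton_iff.2 rfl, mem_centralizer_singleton_iff.2 hs⟩

omit [Finite G] in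
theorem el_comm {s : G} (hs : s * z = z * s) (a : D z s) : a * el hs = el hs * a :=
  Subtype.ext (mem_centralizer_singleton_iff.1 a.2.1)

omit [Finite G] in
include h in
theorem pow_four {x : G} (hx : x ∈ Q) : x ^ 4 = 1 := by
  have h1 : x ^ 4 = (x * x) * (x * x) := by simp only [pow_succ, pow_zero, one_mul, mul_assoc]
  rw [h1]
  rcases h.sq x hx with h2 | h2
  · rw [h2, one_mul]
  · rw [h2, h.z_sq]

theorem mem_of_rho {s : G} {a : D z s} (ha : rho h s a = 1) : (a : G) ∈ Q := h.mem_of_act _ ha

theorem orderOf_rho {s : G} (hs : s * z = z * s) (hn : Odd (orderOf s)) : orderOf (rho h s (el hs)) = orderOf s := by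
  refine Nat.dvd_antisymm ?_ ?_
  · have h1 : orderOf (el hs) = orderOf s := (orderOf_coe (el hs)).symm
    rw [← h1]
    exact orderOf_map_dvd (rho h s) (el hs)
  · set k := orderOf (rho h s (el hs)) with hk
    have h1 : rho h s (el hs ^ k) = 1 := by rw [map_pow, hk, pow_orderOf_eq_one]
    have h2 := mem_of_rho h h1
    have h3 := pow_four h h2
    have h4 : s ^ (k * 4) = 1 := by
      rw [pow_mul]
      exact h3
    have h5 := orderOf_dvd_of_pow_eq_one h4
    have h6 : Nat.Coprime (orderOf s) 4 := by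
      rw [show (4 : ℕ) = 2 ^ 2 by norm_num]
      exact Nat.Coprime.pow_right 2 (Nat.coprime_two_right.2 hn)
    exact h6.dvd_of_dvd_mul_right h5

/-- `|ker ρ| ≤ 2 |C_V(s)|` -/
theorem card_ker {s : G} (hs : s * z = z * s) : Nat.card (rho h s).ker ≤ 2 * Nat.card (fx (rho h s (el hs))) := by
  classical
  -- projection
  let p : (rho h s).ker →* Multiplicative h.V :=
    { toFun := fun a => Multiplicative.ofAdd (h.pr ⟨(a : D z s), mem_of_rho h (MonoidHom.mem_ker.1 a.2)⟩)
      map_one' := by
        rw [← ofAdd_zero, ← h.pr_one]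
        rfl
      map_mul' := fun a b => by
        rw [← ofAdd_add, ← h.pr_mul]
        rfl }
  have hrange : Nat.card p.range ≤ Nat.card (fx (rho h s (el hs))) := by
    refine Nat.card_le_card_of_injective (fun v : p.range => (⟨Multiplicative.toAdd (v : Multiplicative h.V), ?_⟩ : fx (rho h s (el hs)))) ?_
    · obtain ⟨a, ha⟩ := v.2
      rw [mem_fx, ← ha]
      show h.act (inclusion inf_le_right (el hs)) (h.pr _) = h.pr _
      rw [h.act_pr]
      congr 1
      apply Subtype.ext
      rw [h.conjQ_coe]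
      show s * ((a : D z s) : G) * s⁻¹ = ((a : D z s) : G)
      rw [← mem_centralizer_singleton_iff.1 (a : D z s).2.1, mul_inv_cancel_right]
    · intro v w hvw
      have h1 : Multiplicative.toAdd (v : Multiplicative h.V) = Multiplicative.toAdd (w : Multiplicative h.V) :=
        congrArg (Subtype.val : fx (rho h s (el hs)) → h.V) hvw
      exact Subtype.ext (Multiplicative.toAdd.injective h1)
  have hker : Nat.card p.ker ≤ 2 := by
    have h1 : Nat.card p.ker ≤ Nat.card ({1, z} : Set G) := by
      refine Nat.card_le_card_of_injective (fun a : p.ker => (⟨(((a : (rho h s).ker) : D z s) : G), ?_⟩ : ({1, z} : Set G))) ?_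
      · have h2 : p (a : (rho h s).ker) = 1 := MonoidHom.mem_ker.1 a.2
        have h3 : h.pr ⟨((a : (rho h s).ker) : D z s), mem_of_rho h (MonoidHom.mem_ker.1 (a : (rho h s).ker).2)⟩ = 0 :=
          Multiplicative.ofAdd.injective h2
        rcases h.pr_eq_zero.1 h3 with h4 | h4
        · left; exact h4
        · right; exact h4
      · intro a b hab
        have h2 := congrArg Subtype.val hab
        exact Subtype.ext (Subtype.ext (Subtype.ext h2))
    refine h1.trans ?_
    rw [Nat.card_coe_set_eq]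
    exact (Set.ncard_insert_le 1 {z}).trans (by rw [Set.ncard_singleton])
  have hmul : Nat.card (rho h s).ker = Nat.card p.ker * Nat.card p.range := by
    rw [← Subgroup.card_mul_index p.ker, Subgroup.index_ker]
  rw [hmul]
  exact Nat.mul_le_mul hker hrange

/-- **elements of order nine** -/
theorem nine (hV : Nat.card h.V = 256) {s : G} (hs : s * z = z * s) (h9 : orderOf s = 9)
    (h7 : ∀ t : G, orderOf t = 7 → t * s = s * t → False) : Nat.card (D z s) ≤ 432 := by
  have ho := orderOf_rho h hs (by rw [h9]; decide)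
  rw [h9] at ho
  have h7' : ¬ 7 ∣ Nat.card (D z s) := by
    intro hd
    have : Fact (Nat.Prime 7) := ⟨by norm_num⟩
    obtain ⟨t, ht⟩ := exists_prime_orderOf_dvd_card' (G := D z s) 7 hd
    exact h7 t ((orderOf_coe t).trans ht) (mem_centralizer_singleton_iff.1 t.2.1)
  obtain ⟨h1, h2⟩ := Lin.nine (rho h s) hV (el_comm hs) ho h7'
  have h3 := card_ker h hs
  calc Nat.card (D z s) ≤ 54 * Nat.card (rho h s).ker := h1
    _ ≤ 54 * (2 * 4) := Nat.mul_le_mul_left _ (h3.trans (Nat.mul_le_mul_left 2 h2))
    _ = 432 := by norm_num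

/-- **elements of order five** -/
theorem five (hV : Nat.card h.V = 256) {s : G} (hs : s * z = z * s) (h5 : orderOf s = 5) :
    (Nat.card (fx (rho h s (el hs))) = 1 ∧ Nat.card (D z s) ≤ 2550) ∨
      (Nat.card (fx (rho h s (el hs))) = 16 ∧ Nat.card (D z s) ≤ 26880) := by
  have ho := orderOf_rho h hs (by rw [h5]; decide)
  rw [h5] at ho
  have h3 := card_ker h hs
  rcases Lin.five (rho h s) hV (el_comm hs) ho (fun u v => h.q_add' u v) (fun v hv => h.b_nondeg hv)
    (fun a v => h.q_act _ v) with ⟨h1, h2⟩ | ⟨h1, h2⟩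
  · left
    refine ⟨h1, ?_⟩
    rw [h1] at h3
    calc Nat.card (D z s) ≤ 1275 * Nat.card (rho h s).ker := h2
      _ ≤ 1275 * (2 * 1) := Nat.mul_le_mul_left _ h3
      _ = 2550 := by norm_num
  · right
    refine ⟨h1, ?_⟩
    rw [h1] at h3
    calc Nat.card (D z s) ≤ 840 * Nat.card (rho h s).ker := h2
      _ ≤ 840 * (2 * 16) := Nat.mul_le_mul_left _ h3
      _ = 26880 := by norm_num

end Cfsg.Agent.H868.Ore.CoZ
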