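import Cfsg.Agent.H868.Ore.Nine

/-!
# Centralizers of elements of order five of orthogonal groups of dimension eight over `ZMod 2` (helper868)
-/

set_option autoImplicit false

namespace Cfsg.Agent.H868.Ore.Lin

open Module

variable {V : Type*} [AddCommGroup V] [Module (ZMod 2) V]

/-- what commutes with `σ` and fixes `w` fixes the span of the `σ ^ i w` -/
theorem fix_span' {σ τ : V ≃ₗ[ZMod 2] V} (h : τ * σ = σ * τ) {w : V} (hw : τ w = w) :
    ∀ u ∈ Submodule.span (ZMod 2) (Set.range fun i : ℕ => (σ ^ i) w), τ u = u := by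
  intro u hu
  induction hu using Submodule.span_induction with
  | mem x hx =>
    obtain ⟨i, rfl⟩ := hx
    have hc : Commute τ (σ ^ i) := (show Commute τ σ from h).pow_right i
    change τ ((σ ^ i) w) = (σ ^ i) w
    rw [← LinearEquiv.mul_apply, hc.eq, LinearEquiv.mul_apply, hw]
  | zero => exact map_zero _
  | add x y _ _ hx hy => rw [map_add, hx, hy]
  | smul c x _ hx => rw [map_smul, hx]

theorem card_ne_one {U : Submodule (ZMod 2) V} {w : V} (hw : w ∈ U) (hw0 : w ≠ 0) : Nat.card U ≠ 1 := by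
  intro h
  rw [Nat.card_eq_one_iff_unique] at h
  have := h.1
  exact hw0 (congrArg Subtype.val (Subsingleton.elim (⟨w, hw⟩ : U) 0))

theorem eq_of_card [Finite V] {U W : Submodule (ZMod 2) V} (hle : U ≤ W) (h : Nat.card W ≤ Nat.card U) : U = W := by
  apply SetLike.coe_injective
  refine Set.eq_of_subset_of_ncard_le hle ?_ (Set.toFinite _)
  rw [← Nat.card_coe_set_eq, ← Nat.card_coe_set_eq]
  exact h

/-- the order of an invariant subspace, for `σ` of order five acting freely -/
theorem card_five [Finite V] {σ : V ≃ₗ[ZMod 2] V} (hσ : orderOf σ = 5) (hV : Nat.card V = 256) (U : Submodule (ZMod 2) V)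
    (hU : ∀ u ∈ U, σ u ∈ U) (hfree : ∀ u ∈ U, u ≠ 0 → ∀ j : ℕ, (σ ^ j) u = u → 5 ∣ j) :
    Nat.card U = 1 ∨ Nat.card U = 16 ∨ Nat.card U = 256 := by
  obtain ⟨k, hk⟩ := card_pow U
  have h1 := dvd_card hσ U hU hfree
  have h2 : Nat.card U ≤ 256 := by
    rw [← hV]
    exact Nat.card_le_card_of_injective (Subtype.val : U → V) Subtype.val_injective
  have h3 : k ≤ 8 := by
    rw [hk] at h2
    by_contra hlt
    have : 2 ^ 9 ≤ 2 ^ k := Nat.pow_le_pow_right (by norm_num) (by omega)
    norm_num at this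
    omega
  rw [hk] at h1 ⊢
  interval_cases k <;> revert h1 <;> decide

theorem five_free {σ : V ≃ₗ[ZMod 2] V} (hσ : orderOf σ = 5) : ∀ u ∈ mv (σ ^ 1), u ≠ 0 → ∀ j : ℕ, (σ ^ j) u = u → 5 ∣ j := by
  intro u hu hu0 j hj
  have hσ5 : σ ^ 5 = 1 := by rw [← hσ, pow_orderOf_eq_one]
  rw [period_dvd] at hj
  refine dvd_trans ?_ hj
  have h1 : Function.minimalPeriod σ u ∣ 5 := by
    rw [← period_dvd, hσ5]; rfl
  have h2 : ¬ Function.minimalPeriod σ u ∣ 1 := by
    rw [← period_dvd]
    intro h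
    exact hu0 (fx_inf_mv (by decide : Odd 5) (by rw [← pow_mul]; exact hσ5) (mem_fx.2 h) hu)
  rcases (Nat.dvd_prime (by norm_num)).1 h1 with h | h
  · rw [h] at h2
    exact absurd (dvd_refl 1) h2
  · rw [h]

section act

variable {A : Type*} [Group A] (ρ : A →* (V ≃ₗ[ZMod 2] V))

theorem five_step [Finite A] [Finite V] {σ : V ≃ₗ[ZMod 2] V} (hσ : orderOf σ = 5) (hV : Nat.card V = 256)
    (hcomm : ∀ a, ρ a * σ = σ * ρ a) (W : Submodule (ZMod 2) V) (h16 : Nat.card W = 16) (hσW : ∀ w ∈ W, σ w ∈ W)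
    (hfree : ∀ u ∈ W, u ≠ 0 → ∀ j : ℕ, (σ ^ j) u = u → 5 ∣ j) (hAW : ∀ a : A, ∀ w ∈ W, ρ a w ∈ W) {q : V → ZMod 2}
    (hqa : ∀ a v, q (ρ a v) = q v) {x y : V} (hx : x ∈ W) (hx0 : x ≠ 0) (hy : y ∈ W) (hy0 : y ≠ 0) (hxy : q x ≠ q y) :
    Nat.card A ≤ 5 * Nat.card (perm ρ W hAW).ker := by
  have hspan : ∀ w ∈ W, w ≠ 0 → Submodule.span (ZMod 2) (Set.range fun i : ℕ => (σ ^ i) w) = W := by
    intro w hw hw0
    have hle := span_le (σ := σ) hσW hw
    apply eq_of_card hle
    rw [h16]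
    rcases card_five hσ hV _ (span_inv (σ := σ) (w := w)) (fun u hu => hfree u (hle hu)) with h | h | h
    · exact absurd h (card_ne_one self_mem_span hw0)
    · rw [h]
    · rw [h]; norm_num
  set π := perm ρ W hAW with hπdef
  have hπ : ∀ a (x : NZ W), π a x = x → π a = 1 := by
    intro a x hx
    have h1 : ρ a x.1 = x.1 := congrArg Subtype.val hx
    have h2 := fix_span' (hcomm a) h1
    ext w
    change ρ a w.1 = w.1
    apply h2
    rw [hspan _ x.2.1 x.2.2]
    exact w.2.1
  have hNZ : Nat.card (NZ W) = 15 := by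
    have := card_NZ W
    omega
  have hr := range_dvd π hπ
  have hlt := range_lt π hπ (x := ⟨x, hx, hx0⟩) (y := ⟨y, hy, hy0⟩) (by
    intro a ha
    have h1 : ρ a x = y := congrArg Subtype.val ha
    apply hxy
    rw [← hqa a x, h1])
  rw [hNZ] at hr hlt
  have h5 : Nat.card π.range ≤ 5 := by
    have h : ∀ d : ℕ, d < 15 → d ∣ 15 → d ≤ 5 := by decide
    exact h _ hlt hr
  rw [card_eq_ker_mul π]
  exact Nat.mul_le_mul_right _ h5

end act

/-! ### quadratic forms -/

section quad

variable {q : V → ZMod 2} {b : LinearMap.BilinForm (ZMod 2) V} (hq : ∀ u v, q (u + v) = q u + q v + b u v)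

include hq

theorem q_zero : q 0 = 0 := by
  have h := hq 0 0
  rw [add_zero, map_zero, add_zero] at h
  exact left_eq_add.1 h

theorem b_self (v : V) : b v v = 0 := by
  have h := hq v v
  rw [add_self, q_zero hq] at h
  have h2 : q v + q v = 0 := CharTwo.add_self_eq_zero _
  rw [h2, zero_add] at h
  exact h.symm

theorem b_eq (u v : V) : b u v = q (u + v) + q u + q v := by
  rw [hq]
  generalize q u = x
  generalize q v = y
  generalize b u v = z
  revert x y z
  decide

theorem b_comm (u v : V) : b u v = b v u := by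
  rw [b_eq hq, b_eq hq v u, add_comm v u]
  ring

/-- `q` is not constant on the non-zero vectors of a nondegenerate subspace of order 16 -/
theorem exists_ne [Finite V] {W : Submodule (ZMod 2) V} (h16 : Nat.card W = 16)
    (hW : ∀ w ∈ W, (∀ w' ∈ W, b w w' = 0) → w = 0) : ∃ x ∈ W, ∃ y ∈ W, x ≠ 0 ∧ y ≠ 0 ∧ q x ≠ q y := by
  classical
  have hpick : ∀ T : Finset V, T.card < 16 → ∃ w ∈ W, w ∉ T := by
    intro T hT
    by_contra hcon
    push Not at hcon
    have h1 : (W : Set V) ⊆ (T : Set V) := fun w hw => hcon w hw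
    have h2 := Set.ncard_le_ncard h1 (Set.toFinite _)
    rw [Set.ncard_coe_finset, ← Nat.card_coe_set_eq] at h2
    change Nat.card W ≤ T.card at h2
    omega
  by_contra hcon
  push Not at hcon
  obtain ⟨x, hx, hx0⟩ := hpick {0} (by simp)
  rw [Finset.mem_singleton] at hx0
  have hc : ∀ u ∈ W, u ≠ 0 → q u = q x := fun u hu hu0 => hcon u hu x hx hu0 hx0
  have hb : ∀ u ∈ W, ∀ v ∈ W, u ≠ 0 → v ≠ 0 → u ≠ v → b u v = q x := by
    intro u hu v hv hu0 hv0 huv
    have huv' : u + v ≠ 0 := by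
      intro h
      apply huv
      rw [← neg_eq v]
      exact eq_neg_of_add_eq_zero_left h
    rw [b_eq hq, hc _ (add_mem hu hv) huv', hc u hu hu0, hc v hv hv0, CharTwo.add_self_eq_zero, zero_add]
  have hqx : q x ≠ 0 := by
    intro h
    apply hx0
    apply hW x hx
    intro w hw
    by_cases hw0 : w = 0
    · rw [hw0, map_zero]
    · by_cases hwx : x = w
      · rw [← hwx]; exact b_self hq x
      · rw [hb x hx w hw hx0 hw0 hwx, h]
  obtain ⟨y, hy, hy'⟩ := hpick {0, x} ((Finset.card_le_two).trans_lt (by norm_num))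
  simp only [Finset.mem_insert, Finset.mem_singleton, not_or] at hy'
  obtain ⟨z, hz, hz'⟩ := hpick {0, x, y, x + y} ((Finset.card_le_four).trans_lt (by norm_num))
  simp only [Finset.mem_insert, Finset.mem_singleton, not_or] at hz'
  obtain ⟨z0, zx, zy, zxy⟩ := hz'
  have h1 : y + z ≠ 0 := by
    intro h
    apply zy
    rw [← neg_eq y]
    exact eq_neg_of_add_eq_zero_right h
  have h2 : x ≠ y + z := by
    intro h
    apply zxy
    rw [h]
    have : y + z + y = z + (y + y) := by abel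
    rw [this, add_self, add_zero]
  have h3 := hb x hx (y + z) (add_mem hy hz) hx0 h1 h2
  rw [map_add, hb x hx y hy hx0 hy'.1 (Ne.symm hy'.2), hb x hx z hz hx0 z0 (Ne.symm zx), CharTwo.add_self_eq_zero] at h3
  exact hqx h3.symm

end quad

end Cfsg.Agent.H868.Ore.Lin
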