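import Cfsg.Agent.H868.Ore.Five

/-!
# Centralizers of elements of order five of orthogonal groups of dimension eight over `ZMod 2`, the two cases (helper868)
-/

set_option autoImplicit false

namespace Cfsg.Agent.H868.Ore.Lin

open Module

variable {V : Type*} [AddCommGroup V] [Module (ZMod 2) V]
variable {A : Type*} [Group A] (ρ : A →* (V ≃ₗ[ZMod 2] V))

section main

variable [Finite A] [Finite V] (hV : Nat.card V = 256) {s : A} (hs : ∀ a, a * s = s * a) (h5 : orderOf (ρ s) = 5)
  {q : V → ZMod 2} {b : LinearMap.BilinForm (ZMod 2) V} (hq : ∀ u v, q (u + v) = q u + q v + b u v)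
  (hb : ∀ v, (∀ w, b v w = 0) → v = 0) (hqa : ∀ a v, q (ρ a v) = q v)

omit [Finite A] [Finite V] in
include hqa hq in
theorem b_act (a : A) (u v : V) : b (ρ a u) (ρ a v) = b u v := by
  rw [b_eq hq, b_eq hq, ← map_add, hqa, hqa, hqa]

include hV hs h5 hq hb hqa in
/-- no fixed vectors -/
theorem five_zero (h8 : Nat.card (mv (ρ s ^ 1)) = 256) : Nat.card A ≤ 1275 * Nat.card ρ.ker := by
  classical
  set σ := ρ s with hσ
  have hW : mv (σ ^ 1) = ⊤ := by
    apply eq_of_card le_top
    rw [h8, ← hV]
    exact Nat.card_le_card_of_injective (Subtype.val : (⊤ : Submodule (ZMod 2) V) → V) Subtype.val_injective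
  have hfree : ∀ u : V, u ≠ 0 → ∀ j : ℕ, (σ ^ j) u = u → 5 ∣ j := fun u =>
    five_free h5 u (by rw [hW]; exact Submodule.mem_top)
  have hcomm : ∀ a, ρ a * σ = σ * ρ a := fun a => by rw [hσ, ← map_mul, ← map_mul, hs a]
  -- a vector `w` with `b w (σ w) ≠ 0`
  obtain ⟨w, hw⟩ : ∃ w, b w (σ w) ≠ 0 := by
    by_contra hcon
    push Not at hcon
    have h1 : ∀ u v, b (σ u) v = b (σ.symm u) v := by
      intro u v
      have h2 := hcon (u + v)
      rw [map_add, map_add, map_add, LinearMap.add_apply, LinearMap.add_apply, hcon u, hcon v, zero_add, add_zero] at h2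
      have h3 : b u (σ v) = b (σ.symm u) v := by
        have := b_act ρ hq hqa s (σ.symm u) v
        rw [← this, ← hσ, LinearEquiv.apply_symm_apply]
      rw [b_comm hq v (σ u), h3] at h2
      exact (CharTwo.add_eq_zero.1 h2)
    have h4 : ∀ u, σ u = σ.symm u := by
      intro u
      apply sub_eq_zero.1
      apply hb
      intro v
      rw [map_sub, LinearMap.sub_apply, h1, sub_self]
    obtain ⟨u, hu⟩ : ∃ u : V, u ≠ 0 := by
      have : Nontrivial V := Finite.one_lt_card_iff_nontrivial.1 (by rw [hV]; norm_num)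
      exact _root_.exists_ne 0
    have h6 : (σ ^ 2) u = u := by
      rw [pow_two, LinearEquiv.mul_apply, h4 (σ u), LinearEquiv.symm_apply_apply]
    have := hfree u hu 2 h6
    norm_num at this
  have hw0 : w ≠ 0 := by
    rintro rfl
    apply hw
    rw [map_zero]; rfl
  set U := Submodule.span (ZMod 2) (Set.range fun i : ℕ => (σ ^ i) w) with hU
  have hUinv : ∀ u ∈ U, σ u ∈ U := span_inv
  have hwU : w ∈ U := self_mem_span
  have hst := step ρ ⊤ w {v : V | v ≠ 0} (fun h _ h0 => hw0 ((ρ h).map_eq_zero_iff.1 h0)) (n := 255) (by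
    have h1 := ncard_nz (⊤ : Submodule (ZMod 2) V)
    have h2 : {v : V | v ∈ (⊤ : Submodule (ZMod 2) V) ∧ v ≠ 0} = {v : V | v ≠ 0} := by
      ext v
      simp
    have h3 : Nat.card (⊤ : Submodule (ZMod 2) V) = 256 := by rw [← hW]; exact h8
    rw [h2, h3] at h1
    rw [Nat.card_coe_set_eq]
    omega)
  rw [top_inf_eq] at hst
  have hA : Nat.card (⊤ : Subgroup A) = Nat.card A := Nat.card_congr Subgroup.topEquiv.toEquiv
  rw [hA] at hst
  have hstU : ∀ a ∈ stab ρ w, ∀ u ∈ U, ρ a u = u := fun a ha => fix_span' (hcomm a) ha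
  rcases card_five h5 hV U hUinv (fun u _ => hfree u) with h | h | h
  · exact absurd h (card_ne_one hwU hw0)
  · -- `U` is nondegenerate
    have hrad : ∀ u ∈ U, (∀ v ∈ U, b u v = 0) → u = 0 := by
      let R : Submodule (ZMod 2) V :=
        { carrier := {u | u ∈ U ∧ ∀ v ∈ U, b u v = 0}
          add_mem' := by
            rintro x y ⟨hx, hx'⟩ ⟨hy, hy'⟩
            refine ⟨add_mem hx hy, fun v hv => ?_⟩
            rw [map_add, LinearMap.add_apply, hx' v hv, hy' v hv, add_zero]
          zero_mem' := ⟨zero_mem U, fun v _ => by rw [map_zero]; rfl⟩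
          smul_mem' := by
            rintro c x ⟨hx, hx'⟩
            refine ⟨Submodule.smul_mem _ _ hx, fun v hv => ?_⟩
            rw [map_smul, LinearMap.smul_apply, hx' v hv, smul_zero] }
      have hRU : R ≤ U := fun u hu => hu.1
      have hσU : ∀ v ∈ U, ∃ v' ∈ U, σ v' = v := by
        have hinj : Function.Injective (fun u : U => (⟨σ u, hUinv u u.2⟩ : U)) := by
          intro u v huv
          exact Subtype.ext (σ.injective (congrArg Subtype.val huv))
        intro v hv
        obtain ⟨v', hv'⟩ := (Finite.injective_iff_surjective.1 hinj) ⟨v, hv⟩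
        exact ⟨v', v'.2, congrArg Subtype.val hv'⟩
      have hRinv : ∀ u ∈ R, σ u ∈ R := by
        rintro u ⟨hu, hu'⟩
        refine ⟨hUinv u hu, fun v hv => ?_⟩
        obtain ⟨v', hv', rfl⟩ := hσU v hv
        rw [hσ, b_act ρ hq hqa]
        exact hu' v' hv'
      intro u hu hu'
      rcases card_five h5 hV R hRinv (fun u _ => hfree u) with h1 | h1 | h1
      · by_contra hu0
        exact card_ne_one (U := R) (w := u) ⟨hu, hu'⟩ hu0 h1
      · exfalso
        have h2 : R = U := eq_of_card hRU (by rw [h, h1])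
        have h3 : w ∈ R := by rw [h2]; exact hwU
        exact hw (h3.2 _ (hUinv w hwU))
      · exfalso
        have h2 : Nat.card R ≤ Nat.card U := Nat.card_mono (Set.toFinite _) hRU
        rw [h1, h] at h2
        norm_num at h2
    -- the orthogonal complement
    let U' : Submodule (ZMod 2) V :=
      { carrier := {v | ∀ u ∈ U, b v u = 0}
        add_mem' := by
          intro x y hx hy u hu
          rw [map_add, LinearMap.add_apply, hx u hu, hy u hu, add_zero]
        zero_mem' := fun u _ => by rw [map_zero]; rfl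
        smul_mem' := by
          intro c x hx u hu
          rw [map_smul, LinearMap.smul_apply, hx u hu, smul_zero] }
    have hcardU' : Nat.card U' = 16 := by
      let f : V →ₗ[ZMod 2] Module.Dual (ZMod 2) U := (LinearMap.lcomp (ZMod 2) (ZMod 2) U.subtype).comp b
      have hker : LinearMap.ker f = U' := by
        ext v
        rw [LinearMap.mem_ker]
        constructor
        · intro h1 u hu
          exact LinearMap.congr_fun h1 ⟨u, hu⟩
        · intro h1
          ext ⟨u, hu⟩
          exact h1 u hu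
      have hfr := LinearMap.finrank_range_add_finrank_ker f
      have hr1 : finrank (ZMod 2) (LinearMap.range f) ≤ finrank (ZMod 2) U := by
        rw [← Subspace.dual_finrank_eq (K := ZMod 2) (V := U)]
        exact Submodule.finrank_le _
      have hcard : ∀ X : Submodule (ZMod 2) V, Nat.card X = 2 ^ finrank (ZMod 2) X := by
        intro X
        have := Module.natCard_eq_pow_finrank (K := ZMod 2) (V := X)
        rwa [Nat.card_zmod] at this
      have hfV : finrank (ZMod 2) V = 8 := by
        have := Module.natCard_eq_pow_finrank (K := ZMod 2) (V := V)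
        rw [Nat.card_zmod, hV, show (256 : ℕ) = 2 ^ 8 by norm_num] at this
        exact (Nat.pow_right_injective (le_refl 2) this).symm
      have hfU : finrank (ZMod 2) U = 4 := by
        have := hcard U
        rw [h, show (16 : ℕ) = 2 ^ 4 by norm_num] at this
        exact (Nat.pow_right_injective (le_refl 2) this).symm
      have hdisj : U ⊓ U' = ⊥ := by
        rw [eq_bot_iff]
        rintro v ⟨hv, hv'⟩
        exact hrad v hv hv'
      have hsup := Submodule.finrank_sup_add_finrank_inf_eq U U'
      rw [hdisj, finrank_bot, add_zero] at hsup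
      have hle : finrank (ZMod 2) ↥(U ⊔ U') ≤ finrank (ZMod 2) V := Submodule.finrank_le _
      rw [hker] at hfr
      rw [hcard U', show finrank (ZMod 2) U' = 4 by omega]
      norm_num
    have hadd : ∀ v : V, ∃ u ∈ U, ∃ u' ∈ U', v = u + u' := by
      have hinj : Function.Injective (fun x : U × U' => (x.1 : V) + x.2) := by
        rintro ⟨a, c⟩ ⟨d, e⟩ h1
        change (a : V) + c = d + e at h1
        have h2 : (a : V) - d = e - c := by rw [sub_eq_sub_iff_add_eq_add, h1, add_comm]
        have h3 : (a : V) - d = 0 := hrad _ (sub_mem a.2 d.2) (by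
          intro u hu
          rw [h2]
          exact (sub_mem e.2 c.2 : (e : V) - c ∈ U') u hu)
        have h4 : (e : V) - c = 0 := by rw [← h2, h3]
        rw [Prod.mk.injEq]
        exact ⟨Subtype.ext (sub_eq_zero.1 h3), (Subtype.ext (sub_eq_zero.1 h4)).symm⟩
      have hcard : Nat.card (U × U') = Nat.card V := by rw [Nat.card_prod, h, hcardU', hV]
      have hbij := (Nat.bijective_iff_injective_and_card _).2 ⟨hinj, hcard⟩
      intro v
      obtain ⟨x, hx⟩ := hbij.2 v
      exact ⟨x.1, x.1.2, x.2, x.2.2, hx.symm⟩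
    -- the stabiliser of `w` acts on `U'`
    have hinvU' : ∀ τ : V ≃ₗ[ZMod 2] V, (∀ u v, b (τ u) (τ v) = b u v) → (∀ u ∈ U, ∃ u' ∈ U, τ u' = u) →
        ∀ v ∈ U', τ v ∈ U' := by
      intro τ hτ hτU v hv u hu
      obtain ⟨u', hu', rfl⟩ := hτU u hu
      rw [hτ]
      exact hv u' hu'
    have hHU' : ∀ a : stab ρ w, ∀ v ∈ U', (ρ.comp (stab ρ w).subtype) a v ∈ U' := fun a =>
      hinvU' (ρ a) (b_act ρ hq hqa a) (fun u hu => ⟨u, hu, hstU a a.2 u hu⟩)
    have hσU' : ∀ v ∈ U', σ v ∈ U' := by
      refine hinvU' σ (b_act ρ hq hqa s) ?_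
      have hinj : Function.Injective (fun u : U => (⟨σ u, hUinv u u.2⟩ : U)) := by
        intro u v huv
        exact Subtype.ext (σ.injective (congrArg Subtype.val huv))
      intro v hv
      obtain ⟨v', hv'⟩ := (Finite.injective_iff_surjective.1 hinj) ⟨v, hv⟩
      exact ⟨v', v'.2, congrArg Subtype.val hv'⟩
    have hradU' : ∀ v ∈ U', (∀ v' ∈ U', b v v' = 0) → v = 0 := by
      intro v hv hv'
      apply hb
      intro x
      obtain ⟨u, hu, u', hu', rfl⟩ := hadd x
      rw [map_add, hv u hu, hv' u' hu', add_zero]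
    obtain ⟨x, hx, y, hy, hx0, hy0, hxy⟩ := exists_ne hq hcardU' hradU'
    have h6 := five_step (ρ.comp (stab ρ w).subtype) h5 hV (fun a => hcomm a) U' hcardU' hσU' (fun u _ => hfree u) hHU'
      (q := q) (fun a v => hqa a v) hx hx0 hy hy0 hxy
    have h7 : Nat.card (perm (ρ.comp (stab ρ w).subtype) U' hHU').ker ≤ Nat.card ρ.ker := by
      refine Nat.card_le_card_of_injective (fun a => (⟨((a : stab ρ w) : A), ?_⟩ : ρ.ker)) ?_
      · rw [MonoidHom.mem_ker]
        apply LinearEquiv.ext
        intro v
        obtain ⟨u, hu, u', hu', rfl⟩ := hadd v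
        rw [map_add, hstU _ (a : stab ρ w).2 u hu]
        by_cases hu'0 : u' = 0
        · rw [hu'0, map_zero]; rfl
        · have h8 := congrArg (fun π : Equiv.Perm (NZ U') => ((π ⟨u', hu', hu'0⟩ : NZ U') : V)) (MonoidHom.mem_ker.1 a.2)
          change ρ ((a : stab ρ w) : A) u' = u' at h8
          rw [h8]; rfl
      · intro a c hac
        exact Subtype.ext (Subtype.ext (congrArg (fun x : ρ.ker => (x : A)) hac))
    calc Nat.card A ≤ 255 * Nat.card (stab ρ w) := hst
      _ ≤ 255 * (5 * Nat.card ρ.ker) := Nat.mul_le_mul_left _ (h6.trans (Nat.mul_le_mul_left _ h7))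
      _ = 1275 * Nat.card ρ.ker := by ring
  · have h1 : U = ⊤ := by
      apply eq_of_card le_top
      rw [h, ← hV]
      exact Nat.card_le_card_of_injective (Subtype.val : (⊤ : Submodule (ZMod 2) V) → V) Subtype.val_injective
    have h2 : stab ρ w ≤ ρ.ker := by
      intro a ha
      rw [MonoidHom.mem_ker]
      apply LinearEquiv.ext
      intro v
      exact hstU a ha v (by rw [h1]; exact Submodule.mem_top)
    have h3 := Subgroup.card_le_of_le h2
    calc Nat.card A ≤ 255 * Nat.card (stab ρ w) := hst
      _ ≤ 1275 * Nat.card ρ.ker := by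
        have := Nat.mul_le_mul_left 255 h3
        omega

end main

end Cfsg.Agent.H868.Ore.Lin
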