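import Mathlib
import Cfsg.Agent.H23.FreeAct

/-!
# Centralizers of elements of odd order of linear groups over `ZMod 2` (helper868)

`V` a finite vector space over `ZMod 2`, `ρ : A →* GL(V)`, `s` central in `A`.
* `nine` : if `ρ s` has order nine, `|V| = 256` and 7 does not divide `|A|`, then `|A| ≤ 54 |ker ρ|`, and `ρ s` has at most
  four fixed vectors.
-/

set_option autoImplicit false

namespace Cfsg.Agent.H868.Ore.Lin

open Module

variable {V : Type*} [AddCommGroup V] [Module (ZMod 2) V]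

theorem add_self (v : V) : v + v = 0 := by
  have h : (2 : ZMod 2) • v = v + v := two_smul _ v
  rw [← h, show (2 : ZMod 2) = 0 from rfl, zero_smul]

theorem neg_eq (v : V) : -v = v := by
  rw [neg_eq_iff_add_eq_zero]; exact add_self v

theorem odd_nsmul {n : ℕ} (hn : Odd n) (v : V) : n • v = v := by
  obtain ⟨k, rfl⟩ := hn
  rw [add_nsmul, mul_comm, mul_nsmul', two_nsmul, add_self, one_nsmul]
  simp

/-- `τ` has no non-zero fixed vector in `[V, τ]` -/
theorem eq_zero_of_fix {τ : V ≃ₗ[ZMod 2] V} {n : ℕ} (hn : Odd n) (hτ : τ ^ n = 1) {u w : V} (hw : w = τ u - u)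
    (h : τ w = w) : w = 0 := by
  have h1 : ∀ i : ℕ, (τ ^ i) w = w := by
    intro i
    induction i with
    | zero => rfl
    | succ i ih => rw [pow_succ, LinearEquiv.mul_apply, h, ih]
  have h2 : ∑ i ∈ Finset.range n, (τ ^ i) w = w := by
    rw [Finset.sum_congr rfl fun i _ => h1 i, Finset.sum_const, Finset.card_range, odd_nsmul hn]
  have h3 : ∀ i : ℕ, (τ ^ i) w = (τ ^ (i + 1)) u - (τ ^ i) u := by
    intro i
    rw [hw, map_sub, pow_succ, LinearEquiv.mul_apply]
  rw [Finset.sum_congr rfl fun i _ => h3 i, Finset.sum_range_sub (fun i => (τ ^ i) u), hτ] at h2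
  rw [← h2]
  simp

/-- `[V, τ]` -/
def mv (τ : V ≃ₗ[ZMod 2] V) : Submodule (ZMod 2) V := LinearMap.range ((τ : V →ₗ[ZMod 2] V) - LinearMap.id)

/-- `C_V(τ)` -/
def fx (τ : V ≃ₗ[ZMod 2] V) : Submodule (ZMod 2) V := LinearMap.ker ((τ : V →ₗ[ZMod 2] V) - LinearMap.id)

theorem mem_mv {τ : V ≃ₗ[ZMod 2] V} {w : V} : w ∈ mv τ ↔ ∃ u, w = τ u - u := by
  constructor
  · rintro ⟨u, rfl⟩; exact ⟨u, rfl⟩
  · rintro ⟨u, rfl⟩; exact ⟨u, rfl⟩

theorem mem_fx {τ : V ≃ₗ[ZMod 2] V} {w : V} : w ∈ fx τ ↔ τ w = w := by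
  rw [fx, LinearMap.mem_ker]
  exact sub_eq_zero

theorem card_mul [Finite V] (τ : V ≃ₗ[ZMod 2] V) : Nat.card (fx τ) * Nat.card (mv τ) = Nat.card V := by
  have h1 := Submodule.card_eq_card_quotient_mul_card (fx τ)
  have h2 : Nat.card (V ⧸ fx τ) = Nat.card (mv τ) :=
    Nat.card_congr (LinearMap.quotKerEquivRange ((τ : V →ₗ[ZMod 2] V) - LinearMap.id)).toEquiv
  rw [h1, h2]

theorem fx_inf_mv {τ : V ≃ₗ[ZMod 2] V} {n : ℕ} (hn : Odd n) (hτ : τ ^ n = 1) {w : V} (h1 : w ∈ fx τ) (h2 : w ∈ mv τ) :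
    w = 0 := by
  obtain ⟨u, hu⟩ := mem_mv.1 h2
  exact eq_zero_of_fix hn hτ hu (mem_fx.1 h1)

theorem exists_add [Finite V] {τ : V ≃ₗ[ZMod 2] V} {n : ℕ} (hn : Odd n) (hτ : τ ^ n = 1) (v : V) :
    ∃ a ∈ fx τ, ∃ b ∈ mv τ, v = a + b := by
  have hinj : Function.Injective (fun x : fx τ × mv τ => (x.1 : V) + x.2) := by
    rintro ⟨a, b⟩ ⟨c, d⟩ h
    change (a : V) + b = c + d at h
    have h1 : (a : V) - c = d - b := by rw [sub_eq_sub_iff_add_eq_add, h, add_comm]
    have h2 : (a : V) - c = 0 := fx_inf_mv hn hτ (sub_mem a.2 c.2) (by rw [h1]; exact sub_mem d.2 b.2)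
    have h3 : (d : V) - b = 0 := by rw [← h1, h2]
    rw [Prod.mk.injEq]
    exact ⟨Subtype.ext (sub_eq_zero.1 h2), (Subtype.ext (sub_eq_zero.1 h3)).symm⟩
  have hcard : Nat.card (fx τ × mv τ) = Nat.card V := by rw [Nat.card_prod, card_mul]
  have hb := (Nat.bijective_iff_injective_and_card _).2 ⟨hinj, hcard⟩
  obtain ⟨x, hx⟩ := hb.2 v
  exact ⟨x.1, x.1.2, x.2, x.2.2, hx.symm⟩

theorem card_pow [Finite V] (U : Submodule (ZMod 2) V) : ∃ k, Nat.card U = 2 ^ k := by
  have := Module.natCard_eq_pow_finrank (K := ZMod 2) (V := U)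
  rw [Nat.card_zmod] at this
  exact ⟨_, this⟩

/-- free action of `⟨σ⟩` on the non-zero vectors of an invariant subspace -/
theorem dvd_card [Finite V] {σ : V ≃ₗ[ZMod 2] V} {n : ℕ} (hσ : orderOf σ = n) (U : Submodule (ZMod 2) V)
    (hU : ∀ u ∈ U, σ u ∈ U) (hfree : ∀ u ∈ U, u ≠ 0 → ∀ j : ℕ, (σ ^ j) u = u → n ∣ j) : n ∣ Nat.card U - 1 := by
  classical
  let X := {u : U // u ≠ 0}
  have hmem : ∀ (g : Subgroup.zpowers σ) (u : V), u ∈ U → (g : V ≃ₗ[ZMod 2] V) u ∈ U := by
    rintro ⟨g, hg⟩ u hu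
    have hfin : IsOfFinOrder σ := by
      have : Finite (V ≃ₗ[ZMod 2] V) := Finite.of_injective (fun e : V ≃ₗ[ZMod 2] V => (e : V → V)) DFunLike.coe_injective
      exact isOfFinOrder_of_finite σ
    obtain ⟨j, hj⟩ := hfin.mem_powers_iff_mem_zpowers.2 hg
    change σ ^ j = g at hj
    change g u ∈ U
    rw [← hj]
    clear hj
    induction j with
    | zero => exact hu
    | succ j ih => rw [pow_succ', LinearEquiv.mul_apply]; exact hU _ ih
  let act : MulAction (Subgroup.zpowers σ) X :=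
    { smul := fun g x => ⟨⟨(g : V ≃ₗ[ZMod 2] V) x.1, hmem g _ x.1.2⟩, fun h => x.2 (by
        have h1 : (g : V ≃ₗ[ZMod 2] V) (x.1 : V) = 0 := congrArg Subtype.val h
        exact Subtype.ext ((g : V ≃ₗ[ZMod 2] V).map_eq_zero_iff.1 h1))⟩
      one_smul := fun x => rfl
      mul_smul := fun g h x => rfl }
  have hfin2 : Finite (V ≃ₗ[ZMod 2] V) := Finite.of_injective (fun e : V ≃ₗ[ZMod 2] V => (e : V → V)) DFunLike.coe_injective
  have h1 : Nat.card (Subgroup.zpowers σ) ∣ Nat.card X := by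
    refine H23.FreeAct.card_dvd_of_free fun g x hgx => ?_
    have h2 : (g : V ≃ₗ[ZMod 2] V) (x.1 : V) = x.1 := congrArg (fun y : X => ((y : U) : V)) hgx
    have hfin : IsOfFinOrder σ := isOfFinOrder_of_finite σ
    obtain ⟨j, hj⟩ := hfin.mem_powers_iff_mem_zpowers.2 g.2
    change σ ^ j = (g : V ≃ₗ[ZMod 2] V) at hj
    rw [← hj] at h2
    have h3 := hfree x.1 x.1.2 (fun h => x.2 (Subtype.ext h)) j h2
    apply Subtype.ext
    rw [← hj]
    exact orderOf_dvd_iff_pow_eq_one.1 (by rw [hσ]; exact h3)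
  rw [Nat.card_zpowers, hσ] at h1
  have h4 : Nat.card U = Nat.card X + 1 := by
    have e : U ≃ Option X := 
      { toFun := fun u => if h : u = 0 then none else some ⟨u, h⟩
        invFun := fun o => o.elim 0 fun x => x.1
        left_inv := fun u => by
          by_cases h : u = 0
          · simp [h]
          · simp [h]
        right_inv := fun o => by
          rcases o with _ | x
          · simp
          · simp [x.2] }
    rw [Nat.card_congr e, Finite.card_option]
  rw [h4, Nat.add_sub_cancel]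
  exact h1

/-! ### groups of linear maps -/

section act

variable {A : Type*} [Group A] (ρ : A →* (V ≃ₗ[ZMod 2] V))

/-- the non-zero vectors -/
abbrev NZ (W : Submodule (ZMod 2) V) : Type _ := {w : V // w ∈ W ∧ w ≠ 0}

theorem card_NZ [Finite V] (W : Submodule (ZMod 2) V) : Nat.card W = Nat.card (NZ W) + 1 := by
  classical
  have e : W ≃ Option (NZ W) :=
    { toFun := fun u => if h : (u : V) = 0 then none else some ⟨u, u.2, h⟩
      invFun := fun o => o.elim 0 fun x => ⟨x.1, x.2.1⟩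
      left_inv := fun u => by
        by_cases h : (u : V) = 0
        · simp only [h, dite_true, Option.elim_none]
          exact Subtype.ext h.symm
        · simp [h]
      right_inv := fun o => by
        rcases o with _ | x
        · simp
        · simp [x.2.2] }
  rw [Nat.card_congr e, Finite.card_option]

/-- the action on the non-zero vectors of an invariant subspace -/
def perm (W : Submodule (ZMod 2) V) (hW : ∀ a : A, ∀ w ∈ W, ρ a w ∈ W) : A →* Equiv.Perm (NZ W) where
  toFun a :=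
    { toFun := fun w => ⟨ρ a w.1, hW a _ w.2.1, fun h => w.2.2 ((ρ a).map_eq_zero_iff.1 h)⟩
      invFun := fun w => ⟨ρ a⁻¹ w.1, hW a⁻¹ _ w.2.1, fun h => w.2.2 ((ρ a⁻¹).map_eq_zero_iff.1 h)⟩
      left_inv := fun w => by
        apply Subtype.ext
        change ρ a⁻¹ (ρ a w.1) = w.1
        rw [← LinearEquiv.mul_apply, ← map_mul, inv_mul_cancel, map_one]
        rfl
      right_inv := fun w => by
        apply Subtype.ext
        change ρ a (ρ a⁻¹ w.1) = w.1
        rw [← LinearEquiv.mul_apply, ← map_mul, mul_inv_cancel, map_one]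
        rfl }
  map_one' := by
    ext w
    change ρ 1 w.1 = w.1
    rw [map_one]; rfl
  map_mul' a b := by
    ext w
    change ρ (a * b) w.1 = ρ a (ρ b w.1)
    rw [map_mul]; rfl

theorem perm_apply (W : Submodule (ZMod 2) V) (hW : ∀ a : A, ∀ w ∈ W, ρ a w ∈ W) (a : A) (w : NZ W) :
    ((perm ρ W hW a w : NZ W) : V) = ρ a w.1 := rfl

/-- the stabiliser of a vector -/
def stab (v : V) : Subgroup A where
  carrier := {a | ρ a v = v}
  one_mem' := by change ρ 1 v = v; rw [map_one]; rfl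
  mul_mem' := by
    intro a b ha hb
    change ρ (a * b) v = v
    rw [map_mul, LinearEquiv.mul_apply, show ρ b v = v from hb]
    exact ha
  inv_mem' := by
    intro a ha
    change ρ a⁻¹ v = v
    conv_lhs => rw [← show ρ a v = v from ha]
    rw [← LinearEquiv.mul_apply, ← map_mul, inv_mul_cancel, map_one]
    rfl

theorem mem_stab {v : V} {a : A} : a ∈ stab ρ v ↔ ρ a v = v := Iff.rfl

/-- one step of a stabiliser chain -/
theorem step [Finite A] [Finite V] (H : Subgroup A) (x : V) (S : Set V) (hS : ∀ h ∈ H, ρ h x ∈ S) {n : ℕ}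
    (hn : Nat.card S ≤ n) : Nat.card H ≤ n * Nat.card ↥(H ⊓ stab ρ x) := by
  have h1 : Nat.card ↥(H ⊓ stab ρ x) * ((H ⊓ stab ρ x).subgroupOf H).index = Nat.card H := by
    rw [← Nat.card_congr (Subgroup.subgroupOfEquivOfLe (inf_le_left : H ⊓ stab ρ x ≤ H)).toEquiv]
    exact Subgroup.card_mul_index _
  have h2 : ((H ⊓ stab ρ x).subgroupOf H).index ≤ Nat.card S := by
    rw [Subgroup.index]
    let f : H → S := fun h => ⟨ρ h x, hS h h.2⟩
    have hf : ∀ a b : H, f a = f b ↔ (QuotientGroup.mk a : H ⧸ (H ⊓ stab ρ x).subgroupOf H) = QuotientGroup.mk b := by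
      intro a b
      rw [QuotientGroup.eq, Subgroup.mem_subgroupOf]
      constructor
      · intro h
        have h3 : ρ (a : A) x = ρ (b : A) x := congrArg Subtype.val h
        refine ⟨(a⁻¹ * b).2, ?_⟩
        change ρ ((a : A)⁻¹ * b) x = x
        rw [map_mul, LinearEquiv.mul_apply, ← h3, ← LinearEquiv.mul_apply, ← map_mul, inv_mul_cancel, map_one]
        rfl
      · rintro ⟨-, h⟩
        apply Subtype.ext
        have h3 : ρ ((a : A)⁻¹ * b) x = x := h
        change ρ (a : A) x = ρ (b : A) x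
        conv_lhs => rw [← h3]
        rw [← LinearEquiv.mul_apply, ← map_mul, mul_inv_cancel_left]
    refine Nat.card_le_card_of_injective (fun q : H ⧸ (H ⊓ stab ρ x).subgroupOf H => f q.out) ?_
    intro q r h
    have h4 := (hf q.out r.out).1 h
    rwa [QuotientGroup.out_eq', QuotientGroup.out_eq'] at h4
  rw [← h1, mul_comm]
  exact Nat.mul_le_mul_right _ (h2.trans hn)

/-- a group acting freely modulo the kernel -/
theorem range_dvd [Finite A] {X : Type*} [Finite X] (π : A →* Equiv.Perm X) (h : ∀ a x, π a x = x → π a = 1) :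
    Nat.card π.range ∣ Nat.card X := by
  refine H23.FreeAct.card_dvd_of_free (D := π.range) (α := X) fun d x hdx => ?_
  obtain ⟨a, ha⟩ := d.2
  apply Subtype.ext
  rw [← ha]
  refine h a x ?_
  rw [ha]
  exact hdx

theorem card_eq_ker_mul [Finite A] {X : Type*} [Finite X] (π : A →* Equiv.Perm X) :
    Nat.card A = Nat.card π.range * Nat.card π.ker := by
  rw [Subgroup.card_eq_card_quotient_mul_card_subgroup π.ker]
  congr 1
  exact Nat.card_congr (QuotientGroup.quotientKerEquivRange π).toEquiv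

theorem range_lt [Finite A] {X : Type*} [Finite X] (π : A →* Equiv.Perm X) (h : ∀ a x, π a x = x → π a = 1)
    {x y : X} (hxy : ∀ a, π a x ≠ y) : Nat.card π.range < Nat.card X := by
  classical
  have h1 : Function.Injective (fun d : π.range => (d : Equiv.Perm X) x) := by
    intro d e hde
    obtain ⟨a, ha⟩ := d.2
    obtain ⟨b, hb⟩ := e.2
    apply Subtype.ext
    rw [← ha, ← hb]
    have h2 : π a x = π b x := by rw [ha, hb]; exact hde
    have h3 : π (b⁻¹ * a) x = x := by
      rw [map_mul, Equiv.Perm.mul_apply, h2, ← Equiv.Perm.mul_apply, ← map_mul, inv_mul_cancel, map_one]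
      rfl
    have h4 := h _ _ h3
    rw [map_mul, map_inv, inv_mul_eq_one] at h4
    exact h4.symm
  have h5 : Nat.card π.range ≤ Nat.card {z : X // z ≠ y} := by
    refine Nat.card_le_card_of_injective
      (fun d : π.range => (⟨(d : Equiv.Perm X) x, by
        obtain ⟨a, ha⟩ := d.2
        rw [← ha]
        exact hxy a⟩ : {z : X // z ≠ y})) ?_
    intro d e hde
    exact h1 (congrArg Subtype.val hde)
  refine h5.trans_lt ?_
  have : Fintype X := Fintype.ofFinite X
  rw [Nat.card_eq_fintype_card, Nat.card_eq_fintype_card]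
  exact Fintype.card_subtype_lt (x := y) (by simp)

/-- what fixes `w` fixes the span of the `σ ^ i w` -/
theorem fix_span {s a : A} (hs : a * s = s * a) {w : V} (ha : ρ a w = w) :
    ∀ u ∈ Submodule.span (ZMod 2) (Set.range fun i : ℕ => (ρ s ^ i) w), ρ a u = u := by
  intro u hu
  induction hu using Submodule.span_induction with
  | mem x hx =>
    obtain ⟨i, rfl⟩ := hx
    have hc : Commute a (s ^ i) := (show Commute a s from hs).pow_right i
    change ρ a ((ρ s ^ i) w) = (ρ s ^ i) w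
    rw [← map_pow, ← LinearEquiv.mul_apply, ← map_mul, hc.eq, map_mul, LinearEquiv.mul_apply, ha]
  | zero => exact map_zero _
  | add x y _ _ hx hy => rw [map_add, hx, hy]
  | smul c x _ hx => rw [map_smul, hx]

theorem span_inv {σ : V ≃ₗ[ZMod 2] V} {w : V} :
    ∀ u ∈ Submodule.span (ZMod 2) (Set.range fun i : ℕ => (σ ^ i) w),
      σ u ∈ Submodule.span (ZMod 2) (Set.range fun i : ℕ => (σ ^ i) w) := by
  intro u hu
  induction hu using Submodule.span_induction with
  | mem x hx =>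
    obtain ⟨i, rfl⟩ := hx
    refine Submodule.subset_span ⟨i + 1, ?_⟩
    change (σ ^ (i + 1)) w = σ ((σ ^ i) w)
    rw [pow_succ', LinearEquiv.mul_apply]
  | zero => rw [map_zero]; exact zero_mem _
  | add x y _ _ hx hy => rw [map_add]; exact add_mem hx hy
  | smul c x _ hx => rw [map_smul]; exact Submodule.smul_mem _ _ hx

theorem span_le {σ : V ≃ₗ[ZMod 2] V} {w : V} {W : Submodule (ZMod 2) V} (hW : ∀ u ∈ W, σ u ∈ W) (hw : w ∈ W) :
    Submodule.span (ZMod 2) (Set.range fun i : ℕ => (σ ^ i) w) ≤ W := by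
  rw [Submodule.span_le]
  rintro _ ⟨i, rfl⟩
  change (σ ^ i) w ∈ W
  induction i with
  | zero => exact hw
  | succ i ih => rw [pow_succ', LinearEquiv.mul_apply]; exact hW _ ih

theorem self_mem_span {σ : V ≃ₗ[ZMod 2] V} {w : V} :
    w ∈ Submodule.span (ZMod 2) (Set.range fun i : ℕ => (σ ^ i) w) :=
  Submodule.subset_span ⟨0, rfl⟩

theorem mv_inv {s a : A} (hs : a * s = s * a) (m : ℕ) : ∀ w ∈ mv (ρ s ^ m), ρ a w ∈ mv (ρ s ^ m) := by
  intro w hw
  obtain ⟨u, rfl⟩ := mem_mv.1 hw
  refine mem_mv.2 ⟨ρ a u, ?_⟩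
  have hc : Commute a (s ^ m) := (show Commute a s from hs).pow_right m
  rw [map_sub, ← map_pow, ← LinearEquiv.mul_apply, ← LinearEquiv.mul_apply, ← map_mul, ← map_mul, hc.eq]

theorem fx_inv {s a : A} (hs : a * s = s * a) (m : ℕ) : ∀ w ∈ fx (ρ s ^ m), ρ a w ∈ fx (ρ s ^ m) := by
  intro w hw
  rw [mem_fx] at hw ⊢
  have hc : Commute a (s ^ m) := (show Commute a s from hs).pow_right m
  rw [← map_pow, ← LinearEquiv.mul_apply, ← map_mul, ← hc.eq, map_mul, LinearEquiv.mul_apply, map_pow, hw]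

end act

end Cfsg.Agent.H868.Ore.Lin
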