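import Cfsg.Agent.H868.Ore.Lin

/-!
# Centralizers of elements of order nine of linear groups of dimension eight over `ZMod 2` (helper868)

* `nine` : if `ρ s` has order nine, `|V| = 256`, `s` is central in `A` and 7 does not divide `|A|`, then
  `|A| ≤ 54 |ker ρ|`, and `ρ s` has at most four fixed vectors.
-/

set_option autoImplicit false

namespace Cfsg.Agent.H868.Ore.Lin

open Module

variable {V : Type*} [AddCommGroup V] [Module (ZMod 2) V]

theorem pow_apply_iter (σ : V ≃ₗ[ZMod 2] V) (n : ℕ) (v : V) : (σ ^ n) v = (⇑σ)^[n] v := by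
  induction n with
  | zero => rfl
  | succ n ih => rw [pow_succ', LinearEquiv.mul_apply, ih, Function.iterate_succ_apply']

theorem period_dvd {σ : V ≃ₗ[ZMod 2] V} {n : ℕ} {v : V} : (σ ^ n) v = v ↔ Function.minimalPeriod σ v ∣ n := by
  rw [pow_apply_iter]
  exact Function.isPeriodicPt_iff_minimalPeriod_dvd

theorem ncard_nz [Finite V] (F : Submodule (ZMod 2) V) : Nat.card F = Set.ncard {v : V | v ∈ F ∧ v ≠ 0} + 1 := by
  rw [card_NZ F, ← Nat.card_coe_set_eq]
  rfl

theorem ncard_nz_diff [Finite V] (F : Submodule (ZMod 2) V) {x : V} (hx : x ∈ F) (hx0 : x ≠ 0) :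
    Nat.card F = Set.ncard {v : V | (v ∈ F ∧ v ≠ 0) ∧ v ≠ x} + 2 := by
  rw [ncard_nz F]
  have h1 : {v : V | (v ∈ F ∧ v ≠ 0) ∧ v ≠ x} = {v : V | v ∈ F ∧ v ≠ 0} \ {x} := rfl
  rw [h1, ← Set.ncard_sdiff_singleton_add_one (s := {v : V | v ∈ F ∧ v ≠ 0}) (a := x) ⟨hx, hx0⟩ (Set.toFinite _)]

theorem card_mv_eq (σ : V ≃ₗ[ZMod 2] V) [Finite V] (m : ℕ) {k : ℕ} (hV : Nat.card V = 2 ^ k) : ∃ j ≤ k, Nat.card (mv (σ ^ m)) = 2 ^ j ∧ Nat.card (fx (σ ^ m)) = 2 ^ (k - j) := by
  obtain ⟨j, hj⟩ := card_pow (mv (σ ^ m))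
  have h1 := card_mul (σ ^ m)
  rw [hV, hj] at h1
  have h2 : j ≤ k := (Nat.pow_dvd_pow_iff_le_right (by norm_num : 1 < 2)).1 (Dvd.intro_left _ h1)
  refine ⟨j, h2, hj, ?_⟩
  have h3 : 2 ^ k = 2 ^ (k - j) * 2 ^ j := by rw [← pow_add, Nat.sub_add_cancel h2]
  rw [h3] at h1
  exact Nat.eq_of_mul_eq_mul_right (by positivity) h1

theorem eq_one_of_card_mv [Finite V] {τ : V ≃ₗ[ZMod 2] V} (h : Nat.card (mv τ) = 1) : τ = 1 := by
  have h1 : ∀ w ∈ mv τ, w = 0 := by
    intro w hw
    have := (Nat.card_eq_one_iff_unique.1 h).1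
    exact congrArg Subtype.val (Subsingleton.elim (⟨w, hw⟩ : mv τ) 0)
  apply LinearEquiv.ext
  intro v
  have h2 := h1 _ (mem_mv.2 ⟨v, rfl⟩)
  exact sub_eq_zero.1 h2

section act

variable {A : Type*} [Group A] (ρ : A →* (V ≃ₗ[ZMod 2] V))

theorem nine [Finite A] [Finite V] (hV : Nat.card V = 256) {s : A} (hs : ∀ a, a * s = s * a)
    (h9 : orderOf (ρ s) = 9) (h7 : ¬ 7 ∣ Nat.card A) :
    Nat.card A ≤ 54 * Nat.card ρ.ker ∧ Nat.card (fx (ρ s)) ≤ 4 := by
  classical
  set σ := ρ s with hσ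
  have hσ9 : σ ^ 9 = 1 := by rw [← h9, pow_orderOf_eq_one]
  have hτ : (σ ^ 3) ^ 3 = 1 := by rw [← pow_mul]; exact hσ9
  have hτ1 : σ ^ 3 ≠ 1 := by
    intro h
    have h1 := orderOf_dvd_of_pow_eq_one h
    rw [h9] at h1
    norm_num at h1
  set W := mv (σ ^ 3) with hW
  set F := fx (σ ^ 3) with hF
  have hWinv : ∀ a : A, ∀ w ∈ W, ρ a w ∈ W := fun a => mv_inv ρ (hs a) 3
  have hFinv : ∀ a : A, ∀ w ∈ F, ρ a w ∈ F := fun a => fx_inv ρ (hs a) 3
  have hfree : ∀ u ∈ W, u ≠ 0 → ∀ j : ℕ, (σ ^ j) u = u → 9 ∣ j := by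
    intro u hu hu0 j hj
    rw [period_dvd] at hj
    refine dvd_trans ?_ hj
    have h1 : Function.minimalPeriod σ u ∣ 9 := by
      rw [← period_dvd, hσ9]; rfl
    have h2 : ¬ Function.minimalPeriod σ u ∣ 3 := by
      rw [← period_dvd]
      intro h
      exact hu0 (fx_inf_mv (by decide : Odd 3) hτ (mem_fx.2 h) hu)
    have h3 := Nat.le_of_dvd (by norm_num) h1
    have h4 : ∀ d : ℕ, d ≤ 9 → d ∣ 9 → ¬ d ∣ 3 → 9 ∣ d := by decide
    exact h4 _ h3 h1 h2
  obtain ⟨k, hk8, hkW, hkF⟩ := card_mv_eq σ 3 (k := 8) (by rw [hV]; norm_num)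
  have hk : k = 6 := by
    have h1 := dvd_card h9 W (fun u hu => hWinv s u hu) hfree
    rw [hkW] at h1
    have h2 : k ≠ 0 := by
      rintro rfl
      exact hτ1 (eq_one_of_card_mv hkW)
    interval_cases k <;> revert h1 h2 <;> decide
  subst hk
  have hcW : Nat.card W = 64 := by rw [hkW]; norm_num
  have hcF : Nat.card F = 4 := by rw [hkF]; norm_num
  -- the action on `W`
  have hspan : ∀ w ∈ W, w ≠ 0 → Submodule.span (ZMod 2) (Set.range fun i : ℕ => (σ ^ i) w) = W := by
    intro w hw hw0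
    have hle := span_le (σ := σ) (fun u hu => hWinv s u hu) hw
    have h1 := dvd_card h9 (Submodule.span (ZMod 2) (Set.range fun i : ℕ => (σ ^ i) w)) span_inv
      (fun u hu => hfree u (hle hu))
    obtain ⟨j, hj⟩ := card_pow (Submodule.span (ZMod 2) (Set.range fun i : ℕ => (σ ^ i) w))
    have h2 : Nat.card (Submodule.span (ZMod 2) (Set.range fun i : ℕ => (σ ^ i) w)) ≤ 64 := by
      rw [← hcW]
      exact Nat.card_mono (Set.toFinite _) hle
    have h3 : j ≤ 6 := by
      rw [hj] at h2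
      by_contra hlt
      have : 2 ^ 7 ≤ 2 ^ j := Nat.pow_le_pow_right (by norm_num) (by omega)
      norm_num at this
      omega
    have h4 : j ≠ 0 := by
      rintro rfl
      rw [pow_zero, Nat.card_eq_one_iff_unique] at hj
      have := hj.1
      exact hw0 (congrArg Subtype.val (Subsingleton.elim
        (⟨w, self_mem_span⟩ : Submodule.span (ZMod 2) (Set.range fun i : ℕ => (σ ^ i) w)) 0))
    rw [hj] at h1
    have h5 : j = 6 := by
      interval_cases j <;> revert h1 h4 <;> decide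
    subst h5
    apply SetLike.coe_injective
    refine Set.eq_of_subset_of_ncard_le hle ?_ (Set.toFinite _)
    rw [← Nat.card_coe_set_eq, ← Nat.card_coe_set_eq]
    change Nat.card W ≤ Nat.card (Submodule.span (ZMod 2) (Set.range fun i : ℕ => (σ ^ i) w))
    rw [hcW, hj]; norm_num
  let π := perm ρ W hWinv
  have hπ : ∀ a (x : NZ W), π a x = x → π a = 1 := by
    intro a x hx
    have h1 : ρ a x.1 = x.1 := congrArg Subtype.val hx
    have h2 := fix_span ρ (hs a) h1
    ext w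
    change ρ a w.1 = w.1
    apply h2
    rw [← hσ, hspan _ x.2.1 x.2.2]
    exact w.2.1
  have hr := range_dvd π hπ
  have hNZ : Nat.card (NZ W) = 63 := by
    have := card_NZ W
    omega
  rw [hNZ] at hr
  have hAeq := card_eq_ker_mul π
  have hr9 : Nat.card π.range ≤ 9 := by
    have h1 : Nat.Coprime (Nat.card π.range) 7 := by
      rw [Nat.coprime_comm, Nat.Prime.coprime_iff_not_dvd (by norm_num)]
      intro h
      exact h7 (by rw [hAeq]; exact Dvd.dvd.mul_right h _)
    have h2 : Nat.card π.range ∣ 7 * 9 := hr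
    exact Nat.le_of_dvd (by norm_num) (h1.dvd_of_dvd_mul_left h2)
  -- the action of the kernel on `F`
  obtain ⟨x, hx, hx0⟩ : ∃ x ∈ F, x ≠ 0 := by
    by_contra hcon
    push Not at hcon
    have : {v : V | v ∈ F ∧ v ≠ 0} = ∅ := by
      ext v
      simp only [Set.mem_ofPred_eq, Set.mem_empty_iff_false, iff_false, not_and, not_not]
      exact hcon v
    have h1 := ncard_nz F
    rw [this, Set.ncard_empty] at h1
    omega
  obtain ⟨y, hy, hy0, hyx⟩ : ∃ y ∈ F, y ≠ 0 ∧ y ≠ x := by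
    by_contra hcon
    push Not at hcon
    have : {v : V | (v ∈ F ∧ v ≠ 0) ∧ v ≠ x} = ∅ := by
      ext v
      simp only [Set.mem_ofPred_eq, Set.mem_empty_iff_false, iff_false, not_and, not_not, and_imp]
      exact hcon v
    have h1 := ncard_nz_diff F hx hx0
    rw [this, Set.ncard_empty] at h1
    omega
  have s1 := step ρ π.ker x {v : V | v ∈ F ∧ v ≠ 0} (fun h _ => ⟨hFinv h x hx, fun h0 => hx0 ((ρ h).map_eq_zero_iff.1 h0)⟩)
    (n := 3) (by
      rw [Nat.card_coe_set_eq]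
      have := ncard_nz F
      omega)
  have s2 := step ρ (π.ker ⊓ stab ρ x) y {v : V | (v ∈ F ∧ v ≠ 0) ∧ v ≠ x}
    (fun h hh => ⟨⟨hFinv h y hy, fun h0 => hy0 ((ρ h).map_eq_zero_iff.1 h0)⟩, fun h1 => hyx (by
      apply (ρ h).injective
      rw [h1]
      exact (hh.2 : ρ h x = x).symm)⟩)
    (n := 2) (by
      rw [Nat.card_coe_set_eq]
      have := ncard_nz_diff F hx hx0
      omega)
  have hFall : ∀ v ∈ F, v = 0 ∨ v = x ∨ v = y ∨ v = x + y := by
    intro v hv
    by_contra hcon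
    push Not at hcon
    obtain ⟨c1, c2, c3, c4⟩ := hcon
    have h1 : ({0, x, y, x + y, v} : Finset V).card = 5 := by
      have hxy0 : x + y ≠ 0 := by
        intro h
        apply hyx
        rw [← neg_eq x]
        exact (eq_neg_of_add_eq_zero_right h)
      have e1 : x + y ≠ x := fun h => hy0 (by simpa using h)
      have e2 : x + y ≠ y := fun h => hx0 (by simpa using h)
      rw [Finset.card_insert_of_notMem, Finset.card_insert_of_notMem, Finset.card_insert_of_notMem,
        Finset.card_insert_of_notMem, Finset.card_singleton]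
      · simp [Ne.symm c4]
      · simp [e2.symm, Ne.symm c3]
      · simp [Ne.symm hyx, Ne.symm c2, hy0]
      · simp [Ne.symm hx0, Ne.symm hy0, Ne.symm hxy0, Ne.symm c1]
    have h2 : (({0, x, y, x + y, v} : Finset V) : Set V) ⊆ (F : Set V) := by
      intro u hu
      simp only [Finset.coe_insert, Finset.coe_singleton, Set.mem_insert_iff, Set.mem_singleton_iff] at hu
      rcases hu with rfl | rfl | rfl | rfl | rfl
      · exact zero_mem F
      · exact hx
      · exact hy
      · exact add_mem hx hy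
      · exact hv
    have h3 := Set.ncard_le_ncard h2 (Set.toFinite _)
    rw [Set.ncard_coe_finset, h1, ← Nat.card_coe_set_eq] at h3
    change 5 ≤ Nat.card F at h3
    omega
  have hK : π.ker ⊓ stab ρ x ⊓ stab ρ y ≤ ρ.ker := by
    rintro a ⟨⟨h1, h2⟩, h3⟩
    rw [MonoidHom.mem_ker]
    have hw : ∀ w ∈ W, ρ a w = w := by
      intro w hw
      by_cases hw0 : w = 0
      · rw [hw0, map_zero]
      · have h4 : π a ⟨w, hw, hw0⟩ = ⟨w, hw, hw0⟩ := by
          rw [MonoidHom.mem_ker.1 h1]; rfl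
        exact congrArg Subtype.val h4
    have h2' : ρ a x = x := h2
    have h3' : ρ a y = y := h3
    have hf : ∀ f ∈ F, ρ a f = f := by
      intro f hf
      rcases hFall f hf with rfl | rfl | rfl | rfl
      · exact map_zero _
      · exact h2'
      · exact h3'
      · rw [map_add, h2', h3']
    apply LinearEquiv.ext
    intro v
    obtain ⟨f, hf', w, hw', rfl⟩ := exists_add (by decide : Odd 3) hτ v
    rw [map_add, hf f hf', hw w hw']
    rfl
  have hfin : Nat.card ↥(π.ker ⊓ stab ρ x ⊓ stab ρ y) ≤ Nat.card ρ.ker := Subgroup.card_le_of_le hK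
  constructor
  · rw [hAeq]
    calc Nat.card π.range * Nat.card π.ker ≤ 9 * (3 * (2 * Nat.card ρ.ker)) := by
          refine Nat.mul_le_mul hr9 (s1.trans (Nat.mul_le_mul_left 3 (s2.trans (Nat.mul_le_mul_left 2 hfin))))
      _ = 54 * Nat.card ρ.ker := by ring
  · rw [← hcF]
    refine Nat.card_mono (Set.toFinite _) ?_
    intro v hv
    change v ∈ fx (σ ^ 3)
    rw [SetLike.mem_coe, mem_fx] at hv
    rw [mem_fx, period_dvd]
    have : Function.minimalPeriod σ v ∣ 1 := by rw [← period_dvd, pow_one]; exact hv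
    exact this.trans (one_dvd _)

end act

end Cfsg.Agent.H868.Ore.Lin
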